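import Groth.Agent.GitQuot.EtQuot.Stage
import Groth.Agent.AlgSpBasic.SourceDescent

/-!
# Etale morphisms of affine groupoids: the map on invariants is etale and the square is cartesian
-/

set_option autoImplicit false

universe u

open TensorProduct CategoryTheory CategoryTheory.Limits AlgebraicGeometry

noncomputable section

namespace Groth.EtQuot

variable {C A B A' B' C' : Type u} [CommRing C] [CommRing A] [CommRing B] [CommRing A'] [CommRing B']
  [CommRing C'] [Algebra C A] [Algebra C B] [Algebra C A'] [Algebra C B'] [Algebra C C'] [Algebra C' A']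
  [IsScalarTower C C' A'] [Algebra A A'] [IsScalarTower C A A'] [Algebra.Etale A A']
  {σ τ : A →ₐ[C] B} {σ' τ' : A' →ₐ[C] B'} {φ : B →ₐ[C] B'}

/-- Invariants commute with flat base change. -/
theorem exists_preimage_of_flat {P Q R : Type u} [AddCommGroup P] [Module C P] [AddCommGroup Q] [Module C Q]
    [AddCommGroup R] [Module C R] (D : Type u) [AddCommGroup D] [Module C D] [Module.Flat C D]
    (i : P →ₗ[C] Q) (s t : Q →ₗ[C] R) (hi : ∀ p, s (i p) = t (i p)) (he : ∀ q, s q = t q → ∃ p, i p = q)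
    (x : D ⊗[C] Q) (hx : s.lTensor D x = t.lTensor D x) : ∃ y, i.lTensor D y = x := by
  have hex : Function.Exact i (s - t) := fun q => by
    rw [LinearMap.sub_apply, sub_eq_zero]
    exact ⟨fun h => he q h, fun ⟨p, hp⟩ => hp ▸ hi p⟩
  exact (Module.Flat.lTensor_exact D hex x).1 (by rw [LinearMap.lTensor_sub, LinearMap.sub_apply, hx, sub_self])

theorem eq_of_span_singleton_eq {R : Type u} [CommRing R] {x y : R} (hx : IsIdempotentElem x)
    (hy : IsIdempotentElem y) (h : Ideal.span {x} = Ideal.span {y}) : x = y := by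
  obtain ⟨a, ha⟩ := Ideal.mem_span_singleton'.1 (h.le (Ideal.mem_span_singleton_self x))
  obtain ⟨b, hb⟩ := Ideal.mem_span_singleton'.1 (h.ge (Ideal.mem_span_singleton_self y))
  have h1 : x * y = x := by rw [← ha, mul_assoc, hy.eq]
  have h2 : x * y = y := by rw [← hb, mul_comm, mul_assoc, hx.eq]
  exact h1.symm.trans h2

omit [Algebra C B] [Algebra C B'] [Algebra C C'] [Algebra C' A'] [IsScalarTower C C' A'] in
/-- The kernel of a retraction of an etale algebra is generated by an idempotent. -/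
theorem exists_idempotent_ker (D : Type u) [CommRing D] [Algebra C D] (π : A' →ₐ[C] D ⊗[C] A)
    (hπ : π.comp (IsScalarTower.toAlgHom C A A') = Algebra.TensorProduct.includeRight) :
    ∃ e : D ⊗[C] A', IsIdempotentElem e ∧
      RingHom.ker (Algebra.TensorProduct.lift (Algebra.ofId D (D ⊗[C] A)) π fun _ _ => Commute.all _ _) =
        Ideal.span {e} := by
  classical
  let θ : D ⊗[C] A' →ₐ[D] D ⊗[C] A :=
    Algebra.TensorProduct.lift (Algebra.ofId D (D ⊗[C] A)) π fun _ _ => Commute.all _ _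
  let F : D ⊗[C] A →ₐ[D] D ⊗[C] A' := Algebra.TensorProduct.map (AlgHom.id D D) (IsScalarTower.toAlgHom C A A')
  have hθ : ∀ d a', θ (d ⊗ₜ[C] a') = d • π a' := fun d a' => by
    rw [Algebra.smul_def]; exact Algebra.TensorProduct.lift_tmul _ _ _ d a'
  have hθF : ∀ z, θ (F z) = z := fun z => by
    induction z using TensorProduct.induction_on with
    | zero => rw [map_zero, map_zero]
    | tmul d a =>
      show θ (d ⊗ₜ[C] algebraMap A A' a) = _
      rw [hθ, show π (algebraMap A A' a) = (1 : D) ⊗ₜ[C] a from DFunLike.congr_fun hπ a, smul_tmul', smul_eq_mul,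
        mul_one]
    | add x y hx hy => rw [map_add, map_add, hx, hy]
  let I : Ideal (D ⊗[C] A') := RingHom.ker θ
  let δ : A' → D ⊗[C] A' := fun a' => (1 : D) ⊗ₜ[C] a' - F (π a')
  have hδ : ∀ a', δ a' ∈ I := fun a' => by
    show θ _ = 0
    rw [map_sub, hθF, hθ, one_smul, sub_self]
  have hmem : ∀ {K : Ideal (D ⊗[C] A')}, (∀ a', δ a' ∈ K) → ∀ x, x - F (θ x) ∈ K := fun {K} hK x => by
    induction x using TensorProduct.induction_on with
    | zero => simp
    | tmul d a' =>
      rw [hθ, map_smul, show d ⊗ₜ[C] a' = d • ((1 : D) ⊗ₜ[C] a') by rw [smul_tmul', smul_eq_mul, mul_one],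
        ← smul_sub, Algebra.smul_def]
      exact K.mul_mem_left _ (hK a')
    | add x y hx hy => rw [map_add, map_add, add_sub_add_comm]; exact K.add_mem hx hy
  have hgen : ∀ {K : Ideal (D ⊗[C] A')}, (∀ a', δ a' ∈ K) → I ≤ K := fun {K} hK x hx => by
    have h1 := hmem hK x
    rwa [RingHom.mem_ker.1 hx, map_zero, sub_zero] at h1
  -- two lifts of one map modulo a square zero ideal
  letI algA : Algebra A (D ⊗[C] A') :=
    ((Algebra.TensorProduct.includeRight : A' →ₐ[C] D ⊗[C] A').toRingHom.comp (algebraMap A A')).toAlgebra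
  have hFA : ∀ a, F ((1 : D) ⊗ₜ[C] a) = algebraMap A (D ⊗[C] A') a := fun a => rfl
  have hsq : ∀ a', δ a' ∈ I * I := by
    let g₁ : A' →ₐ[A] (D ⊗[C] A') ⧸ (I * I) :=
      { (Ideal.Quotient.mk (I * I)).comp Algebra.TensorProduct.includeRight.toRingHom with commutes' := fun a => rfl }
    let g₂ : A' →ₐ[A] (D ⊗[C] A') ⧸ (I * I) :=
      { (Ideal.Quotient.mk (I * I)).comp (F.toRingHom.comp π.toRingHom) with
        commutes' := fun a => by
          show Ideal.Quotient.mk (I * I) (F (π (algebraMap A A' a))) = _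
          rw [show π (algebraMap A A' a) = (1 : D) ⊗ₜ[C] a from DFunLike.congr_fun hπ a, hFA]
          rfl }
    have hnil : IsNilpotent (I.map (Ideal.Quotient.mk (I * I))) :=
      ⟨2, by rw [← Ideal.map_pow, sq, Ideal.map_quotient_self]; rfl⟩
    have h12 : g₁ = g₂ := Algebra.FormallyUnramified.ext (I.map (Ideal.Quotient.mk (I * I))) hnil fun a' =>
      Ideal.Quotient.eq.2 (by
        show Ideal.Quotient.mk _ _ - Ideal.Quotient.mk _ _ ∈ _
        rw [← map_sub]
        exact Ideal.mem_map_of_mem _ (hδ a'))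
    exact fun a' => Ideal.Quotient.eq.1 (DFunLike.congr_fun h12 a')
  obtain ⟨s, hs⟩ := (inferInstance : Algebra.FiniteType A A').out
  let K : Ideal (D ⊗[C] A') := Ideal.span (s.image δ : Set _)
  have hK : ∀ a', δ a' ∈ K := by
    intro a'
    have : a' ∈ Algebra.adjoin A (s : Set A') := hs ▸ Algebra.mem_top
    induction this using Algebra.adjoin_induction with
    | mem x hx => exact Ideal.subset_span (Finset.mem_coe.2 (Finset.mem_image_of_mem δ hx))
    | algebraMap a =>
      simp only [δ]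
      rw [show π (algebraMap A A' a) = (1 : D) ⊗ₜ[C] a from DFunLike.congr_fun hπ a]
      exact (sub_self ((1 : D) ⊗ₜ[C] algebraMap A A' a)).symm ▸ K.zero_mem
    | add x y _ _ hx hy =>
      simp only [δ, tmul_add, map_add, add_sub_add_comm]
      exact K.add_mem hx hy
    | mul x y _ _ hx hy =>
      have : δ (x * y) = (1 : D) ⊗ₜ[C] x * δ y + δ x * F (π y) := by
        simp only [δ, map_mul, mul_sub, sub_mul, Algebra.TensorProduct.tmul_mul_tmul, mul_one]
        ring
      rw [this]
      exact K.add_mem (K.mul_mem_left _ hy) (K.mul_mem_right _ hx)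
  have hIK : I = K := le_antisymm (hgen hK) (Ideal.span_le.2 (by
    intro x hx
    obtain ⟨a', -, rfl⟩ := Finset.mem_image.1 hx
    exact hδ a'))
  obtain ⟨e, he, hIe⟩ := (Ideal.isIdempotentElem_iff_of_fg I (hIK ▸ ⟨s.image δ, rfl⟩)).1
    (le_antisymm Ideal.mul_le_right (hgen hsq))
  exact ⟨e, he, hIe⟩

/-- The result over an etale neighbourhood. -/
structure StageResult (q' : Ideal C') (D : Type u) [CommRing D] [Algebra C D] where
  ρ : C' →ₐ[C] D
  etale : ρ.toRingHom.Etale
  point : ∃ Q : Ideal D, Q.IsPrime ∧ Q.comap ρ.toRingHom = q'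
  bij : letI := ρ.toRingHom.toAlgebra
    Function.Bijective ((Algebra.TensorProduct.lift (Algebra.ofId C' A') (IsScalarTower.toAlgHom C A A')
      fun _ _ => Commute.all _ _ : C' ⊗[C] A →ₐ[C'] A').toLinearMap.lTensor D)

section Stage

variable (D : Type u) [CommRing D] [Algebra C D]

/-- Base change of a map to `D`. -/
abbrev bc {X Y : Type u} [CommRing X] [Algebra C X] [CommRing Y] [Algebra C Y] (f : X →ₐ[C] Y) :
    D ⊗[C] X →ₐ[D] D ⊗[C] Y :=
  Algebra.TensorProduct.map (AlgHom.id D D) f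

variable {D} in
/-- The extension of a map into `D ⊗ Y`. -/
abbrev retr {X Y : Type u} [CommRing X] [Algebra C X] [CommRing Y] [Algebra C Y] (π : X →ₐ[C] D ⊗[C] Y) :
    D ⊗[C] X →ₐ[D] D ⊗[C] Y :=
  Algebra.TensorProduct.lift (Algebra.ofId D (D ⊗[C] Y)) π fun _ _ => Commute.all _ _

variable {D}

theorem retr_one_tmul {X Y : Type u} [CommRing X] [Algebra C X] [CommRing Y] [Algebra C Y]
    (π : X →ₐ[C] D ⊗[C] Y) (x : X) : retr π ((1 : D) ⊗ₜ[C] x) = π x :=
  (Algebra.TensorProduct.lift_tmul _ _ _ _ _).trans (by rw [map_one, _root_.one_mul])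

theorem retr_bc_self {X Y : Type u} [CommRing X] [Algebra C X] [CommRing Y] [Algebra C Y]
    (π : X →ₐ[C] D ⊗[C] Y) (f : Y →ₐ[C] X) (h : π.comp f = Algebra.TensorProduct.includeRight) (z : D ⊗[C] Y) :
    retr π (bc D f z) = z := by
  refine DFunLike.congr_fun (show (retr π).comp (bc D f) = AlgHom.id D _ from
    Algebra.TensorProduct.ext' fun d y => ?_) z
  show retr π (bc D f (d ⊗ₜ[C] y)) = d ⊗ₜ[C] y
  rw [Algebra.TensorProduct.map_tmul, Algebra.TensorProduct.lift_tmul,
    show π (f y) = (1 : D) ⊗ₜ[C] y from DFunLike.congr_fun h y]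
  simp

theorem retr_bc {X Y X₂ Y₂ : Type u} [CommRing X] [Algebra C X] [CommRing Y] [Algebra C Y] [CommRing X₂]
    [Algebra C X₂] [CommRing Y₂] [Algebra C Y₂] {π : X →ₐ[C] D ⊗[C] Y} {r : X₂ →ₐ[C] D ⊗[C] Y₂}
    {f' : X →ₐ[C] X₂} {f : Y →ₐ[C] Y₂} (h : r.comp f' = (Algebra.TensorProduct.map (AlgHom.id C D) f).comp π)
    (z : D ⊗[C] X) : retr r (bc D f' z) = bc D f (retr π z) := by
  refine DFunLike.congr_fun (show (retr r).comp (bc D f') = (bc D f).comp (retr π) from
    Algebra.TensorProduct.ext' fun d x => ?_) z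
  simp only [AlgHom.comp_apply, Algebra.TensorProduct.map_tmul, Algebra.TensorProduct.lift_tmul, map_mul]
  refine congrArg₂ (· * ·) ?_ ?_
  · exact ((bc D f).commutes d).symm
  · exact DFunLike.congr_fun h x

omit [Algebra.Etale A A'] [Algebra C C'] [Algebra C' A'] [IsScalarTower C C' A'] in
/-- The kernel of the induced map on arrows. -/
theorem mem_span_of_retr_eq_zero (ρ : A →ₐ[C] B) (ρ' : A' →ₐ[C] B')
    (hext : ∀ (T : Type u) [CommRing T] [Algebra C T] (r₁ r₂ : B' →ₐ[C] T),
      r₁.comp φ = r₂.comp φ → r₁.comp ρ' = r₂.comp ρ' → r₁ = r₂)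
    (hcomm : ρ'.comp (IsScalarTower.toAlgHom C A A') = φ.comp ρ)
    (π : A' →ₐ[C] D ⊗[C] A) (hπ : π.comp (IsScalarTower.toAlgHom C A A') = Algebra.TensorProduct.includeRight)
    (r : B' →ₐ[C] D ⊗[C] B) (hrφ : r.comp φ = Algebra.TensorProduct.includeRight)
    (hr : r.comp ρ' = (Algebra.TensorProduct.map (AlgHom.id C D) ρ).comp π)
    (e : D ⊗[C] A') (hker : RingHom.ker (retr π) = Ideal.span {e})
    (x : D ⊗[C] B') (hx : retr r x = 0) : x ∈ Ideal.span {bc D ρ' e} := by
  let mk := Ideal.Quotient.mkₐ D (Ideal.span {bc D ρ' e})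
  have heq : (mk.restrictScalars C).comp Algebra.TensorProduct.includeRight =
      ((mk.comp (bc D φ)).restrictScalars C).comp r := by
    refine hext _ _ _ ?_ ?_
    · rw [AlgHom.comp_assoc _ r, hrφ]
      exact AlgHom.ext fun b => rfl
    · rw [AlgHom.comp_assoc _ r, hr]
      refine AlgHom.ext fun a' => ?_
      show mk ((1 : D) ⊗ₜ[C] ρ' a') = mk (bc D φ (Algebra.TensorProduct.map (AlgHom.id C D) ρ (π a')))
      have hnat : ∀ z, bc D φ (Algebra.TensorProduct.map (AlgHom.id C D) ρ z) =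
          bc D ρ' (bc D (IsScalarTower.toAlgHom C A A') z) := fun z => by
        induction z using TensorProduct.induction_on with
        | zero => simp only [map_zero]
        | tmul d a => exact congrArg (fun b => d ⊗ₜ[C] b) (DFunLike.congr_fun hcomm a).symm
        | add x y hx hy => simp only [map_add, hx, hy]
      rw [hnat, show (1 : D) ⊗ₜ[C] ρ' a' = bc D ρ' ((1 : D) ⊗ₜ[C] a') from rfl]
      refine Ideal.Quotient.eq.2 ?_
      rw [← map_sub]
      have hmem : (1 : D) ⊗ₜ[C] a' - bc D (IsScalarTower.toAlgHom C A A') (π a') ∈ Ideal.span {e} := by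
        rw [← hker, RingHom.mem_ker, map_sub, retr_one_tmul, retr_bc_self π _ hπ, sub_self]
      obtain ⟨c, hc⟩ := Ideal.mem_span_singleton'.1 hmem
      rw [← hc, map_mul]
      exact Ideal.mul_mem_left _ _ (Ideal.mem_span_singleton_self _)
  have hx' : mk x = mk (bc D φ (retr r x)) := by
    refine DFunLike.congr_fun (show mk = (mk.comp (bc D φ)).comp (retr r) from
      Algebra.TensorProduct.ext' fun d b => ?_) x
    show mk (d ⊗ₜ[C] b) = mk (bc D φ (retr r (d ⊗ₜ[C] b)))
    rw [show d ⊗ₜ[C] b = d • ((1 : D) ⊗ₜ[C] b) by rw [smul_tmul', smul_eq_mul, mul_one], map_smul (retr r),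
      map_smul (bc D φ), map_smul mk, map_smul mk, retr_one_tmul]
    exact congrArg (d • ·) (DFunLike.congr_fun heq b)
  rw [hx, map_zero, map_zero] at hx'
  exact Ideal.Quotient.eq_zero_iff_mem.1 hx'

/-- The idempotent of the retraction is invariant. -/
theorem bc_eq_bc (h : Data (C' := C') σ τ σ' τ' φ) (π : A' →ₐ[C] D ⊗[C] A)
    (hπ : π.comp (IsScalarTower.toAlgHom C A A') = Algebra.TensorProduct.includeRight)
    (r : B' →ₐ[C] D ⊗[C] B) (hrφ : r.comp φ = Algebra.TensorProduct.includeRight)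
    (hrσ : r.comp σ' = (Algebra.TensorProduct.map (AlgHom.id C D) σ).comp π)
    (hrτ : r.comp τ' = (Algebra.TensorProduct.map (AlgHom.id C D) τ).comp π)
    (e : D ⊗[C] A') (he : IsIdempotentElem e) (hker : RingHom.ker (retr π) = Ideal.span {e}) :
    bc D σ' e = bc D τ' e := by
  have hθe : retr π e = 0 := hker.ge (Ideal.mem_span_singleton_self e)
  refine eq_of_span_singleton_eq (he.map _) (he.map _) (le_antisymm ?_ ?_)
  · rw [Ideal.span_singleton_le_iff_mem]
    exact mem_span_of_retr_eq_zero τ τ' h.extτ h.commτ π hπ r hrφ hrτ e hker _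
      (by rw [retr_bc hrσ, hθe, map_zero])
  · rw [Ideal.span_singleton_le_iff_mem]
    exact mem_span_of_retr_eq_zero σ σ' h.extσ h.commσ π hπ r hrφ hrσ e hker _
      (by rw [retr_bc hrτ, hθe, map_zero])

theorem algebraMap_injective_tensor [Module.Flat C D] (h : Function.Injective (algebraMap C A)) :
    Function.Injective (algebraMap D (D ⊗[C] A)) := fun a b hab => by
  have h1 := Module.Flat.lTensor_preserves_injective_linearMap (M := D) (Algebra.linearMap C A) h
  have := @h1 (a ⊗ₜ 1) (b ⊗ₜ 1) (by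
    show a ⊗ₜ[C] algebraMap C A 1 = b ⊗ₜ[C] algebraMap C A 1
    rw [map_one]; exact hab)
  simpa using congrArg (TensorProduct.rid C D) this

/-- The retraction maps invariants to `D`. -/
theorem exists_algebraMap_eq [Module.Flat C D] (h : Data (C' := C') σ τ σ' τ' φ) (π : A' →ₐ[C] D ⊗[C] A)
    (r : B' →ₐ[C] D ⊗[C] B)
    (hrσ : r.comp σ' = (Algebra.TensorProduct.map (AlgHom.id C D) σ).comp π)
    (hrτ : r.comp τ' = (Algebra.TensorProduct.map (AlgHom.id C D) τ).comp π) (c : C') :
    ∃ d, algebraMap D (D ⊗[C] A) d = π (algebraMap C' A' c) := by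
  obtain ⟨y, hy⟩ := exists_preimage_of_flat D (Algebra.linearMap C A) σ.toLinearMap τ.toLinearMap
    (fun c => by simp [AlgHom.commutes]) (fun q hq => h.inv q hq) (π (algebraMap C' A' c))
    (((DFunLike.congr_fun hrσ (algebraMap C' A' c)).symm.trans
      (congrArg r (h.inv'_mem c))).trans (DFunLike.congr_fun hrτ (algebraMap C' A' c)))
  refine ⟨TensorProduct.rid C D y, ?_⟩
  rw [← hy]
  clear hy
  induction y using TensorProduct.induction_on with
  | zero => simp only [map_zero]
  | tmul d c =>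
    show (c • d) ⊗ₜ[C] (1 : A) = d ⊗ₜ[C] algebraMap C A c
    rw [Algebra.algebraMap_eq_smul_one, smul_tmul]
  | add p q hp hq => simp only [map_add, hp, hq]

omit [Algebra.Etale A A'] in
/-- A quotient of `D ⊗ C'` by an idempotent is etale over `C'`. -/
theorem etale_of_ker_eq_span [Algebra.Etale C D] (ρD : D ⊗[C] C' →ₐ[D] D) {c₀ : D ⊗[C] C'}
    (hc₀ : IsIdempotentElem c₀) (hker : RingHom.ker ρD.toRingHom = Ideal.span {c₀}) :
    ((ρD.restrictScalars C).comp Algebra.TensorProduct.includeRight).toRingHom.Etale := by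
  have hsurj : Function.Surjective ρD := fun d => ⟨algebraMap D _ d, by rw [AlgHom.commutes]; rfl⟩
  letI algC' : Algebra C' (D ⊗[C] C') := Algebra.TensorProduct.rightAlgebra
  haveI : Algebra.Etale C' (D ⊗[C] C') :=
    Algebra.Etale.of_equiv (Algebra.IsPushout.equiv C C' D (D ⊗[C] C'))
  letI : Algebra (D ⊗[C] C') D := ρD.toRingHom.toAlgebra
  haveI : IsLocalization.Away (1 - c₀) D :=
    IsLocalization.away_of_isIdempotentElem hc₀.one_sub (hker.trans (by rw [sub_sub_cancel])) hsurj
  haveI : Algebra.Etale (D ⊗[C] C') D := Algebra.Etale.of_isLocalizationAway (1 - c₀)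
  exact RingHom.Etale.stableUnderComposition _ _ (RingHom.etale_algebraMap.2 ‹Algebra.Etale C' (D ⊗[C] C')›)
    (RingHom.etale_algebraMap.2 ‹Algebra.Etale (D ⊗[C] C') D›)

variable [Algebra C' D] [IsScalarTower C C' D]

variable (C') in
/-- The quotient map between tensor products. -/
abbrev toTensor : D ⊗[C] A' →ₐ[C] D ⊗[C'] A' :=
  Algebra.TensorProduct.lift ((Algebra.TensorProduct.includeLeft : D →ₐ[C] D ⊗[C'] A'))
    ((Algebra.TensorProduct.includeRight : A' →ₐ[C'] D ⊗[C'] A').restrictScalars C) fun _ _ => Commute.all _ _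

omit [Algebra A A'] [IsScalarTower C A A'] [Algebra.Etale A A'] in
theorem toTensor_tmul (d : D) (a' : A') : toTensor C' (D := D) (C := C) (d ⊗ₜ[C] a') = d ⊗ₜ[C'] a' :=
  (Algebra.TensorProduct.lift_tmul _ _ _ _ _).trans
    ((Algebra.TensorProduct.tmul_mul_tmul d 1 1 a').trans (by rw [mul_one, one_mul]))

omit [Algebra.Etale A A'] in
theorem bijective_lTensor (π : A' →ₐ[C] D ⊗[C] A)
    (hπ : π.comp (IsScalarTower.toAlgHom C A A') = Algebra.TensorProduct.includeRight)
    (hπC : ∀ c : C', π (algebraMap C' A' c) = algebraMap D (D ⊗[C] A) (algebraMap C' D c))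
    (e : D ⊗[C] A') (hker : RingHom.ker (retr π) = Ideal.span {e}) (hqe : toTensor C' e = 0) :
    Function.Bijective ((Algebra.TensorProduct.lift (Algebra.ofId C' A') (IsScalarTower.toAlgHom C A A')
      fun _ _ => Commute.all _ _ : C' ⊗[C] A →ₐ[C'] A').toLinearMap.lTensor D) := by
  let m : C' ⊗[C] A →ₐ[C'] A' := Algebra.TensorProduct.lift (Algebra.ofId C' A') (IsScalarTower.toAlgHom C A A')
    fun _ _ => Commute.all _ _
  let θC : A' →ₐ[C'] D ⊗[C] A := { π with commutes' := fun c => hπC c }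
  let Ψ : D ⊗[C'] A' →ₐ[C'] D ⊗[C] A :=
    Algebra.TensorProduct.lift (IsScalarTower.toAlgHom C' D (D ⊗[C] A)) θC fun _ _ => Commute.all _ _
  let cb : D ⊗[C] A →ₐ[C] D ⊗[C'] (C' ⊗[C] A) :=
    Algebra.TensorProduct.lift ((Algebra.TensorProduct.includeLeft : D →ₐ[C] D ⊗[C'] (C' ⊗[C] A)))
      (((Algebra.TensorProduct.includeRight : C' ⊗[C] A →ₐ[C'] D ⊗[C'] (C' ⊗[C] A)).restrictScalars C).comp
        Algebra.TensorProduct.includeRight) fun _ _ => Commute.all _ _
  have hcb_tmul : ∀ d a, cb (d ⊗ₜ[C] a) = d ⊗ₜ[C'] ((1 : C') ⊗ₜ[C] a) := fun d a =>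
    (Algebra.TensorProduct.lift_tmul _ _ _ _ _).trans
      ((Algebra.TensorProduct.tmul_mul_tmul d 1 1 ((1 : C') ⊗ₜ[C] a)).trans (by rw [mul_one, one_mul]))
  have hcb : Function.Surjective cb := by
    intro z
    induction z using TensorProduct.induction_on with
    | zero => exact ⟨0, map_zero _⟩
    | tmul d w =>
      induction w using TensorProduct.induction_on with
      | zero => exact ⟨0, by rw [map_zero, tmul_zero]⟩
      | tmul c a =>
        refine ⟨(c • d) ⊗ₜ[C] a, ?_⟩
        rw [hcb_tmul, smul_tmul, smul_tmul', smul_eq_mul, mul_one]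
      | add x y hx hy =>
        obtain ⟨x', hx'⟩ := hx
        obtain ⟨y', hy'⟩ := hy
        exact ⟨x' + y', by rw [map_add, hx', hy', tmul_add]⟩
    | add x y hx hy =>
      obtain ⟨x', hx'⟩ := hx
      obtain ⟨y', hy'⟩ := hy
      exact ⟨x' + y', by rw [map_add, hx', hy']⟩
  have hM : ∀ z, m.toLinearMap.lTensor D (cb z) = toTensor C' (bc D (IsScalarTower.toAlgHom C A A') z) := fun z => by
    induction z using TensorProduct.induction_on with
    | zero => simp only [map_zero]
    | tmul d a =>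
      rw [hcb_tmul, LinearMap.lTensor_tmul, Algebra.TensorProduct.map_tmul, toTensor_tmul]
      congr 1
      simp [m]
    | add x y hx hy => simp only [map_add, hx, hy]
  have hΨ : ∀ x, Ψ (toTensor C' x) = retr π x := fun x => by
    induction x using TensorProduct.induction_on with
    | zero => simp only [map_zero]
    | tmul d a' =>
      rw [toTensor_tmul]
      refine (Algebra.TensorProduct.lift_tmul _ _ _ d a').trans ?_
      exact (Algebra.TensorProduct.lift_tmul (Algebra.ofId D (D ⊗[C] A)) π _ d a').symm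
    | add x y hx hy => simp only [map_add, hx, hy]
  refine ⟨fun x y hxy => ?_, fun z => ?_⟩
  · obtain ⟨x, rfl⟩ := hcb x
    obtain ⟨y, rfl⟩ := hcb y
    change m.toLinearMap.lTensor D (cb x) = m.toLinearMap.lTensor D (cb y) at hxy
    rw [hM, hM] at hxy
    have := congrArg Ψ hxy
    rw [hΨ, hΨ, retr_bc_self π _ hπ, retr_bc_self π _ hπ] at this
    rw [this]
  · refine ⟨cb (Ψ z), ?_⟩
    show m.toLinearMap.lTensor D (cb (Ψ z)) = z
    rw [hM]
    induction z using TensorProduct.induction_on with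
    | zero => simp only [map_zero]
    | tmul d a' =>
      rw [← toTensor_tmul (C := C) d a', hΨ]
      have hmem : d ⊗ₜ[C] a' - bc D (IsScalarTower.toAlgHom C A A') (retr π (d ⊗ₜ[C] a')) ∈ Ideal.span {e} := by
        rw [← hker, RingHom.mem_ker, map_sub, retr_bc_self π _ hπ, sub_self]
      obtain ⟨c, hc⟩ := Ideal.mem_span_singleton'.1 hmem
      have := congrArg (toTensor C') hc
      rw [map_mul, hqe, mul_zero, map_sub] at this
      exact (sub_eq_zero.1 this.symm).symm
    | add x y hx hy => simp only [map_add, hx, hy]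

omit [Algebra A A'] [IsScalarTower C A A'] [Algebra.Etale A A'] in
theorem toTensor_bc (ρD : D ⊗[C] C' →ₐ[D] D) (hρ : ∀ c, ρD ((1 : D) ⊗ₜ[C] c) = algebraMap C' D c)
    (x : D ⊗[C] C') : toTensor C' (bc D (IsScalarTower.toAlgHom C C' A') x) = ρD x ⊗ₜ[C'] (1 : A') := by
  induction x using TensorProduct.induction_on with
  | zero => simp only [map_zero, zero_tmul]
  | tmul d c =>
    rw [Algebra.TensorProduct.map_tmul, toTensor_tmul]
    show d ⊗ₜ[C'] algebraMap C' A' c = _
    rw [Algebra.algebraMap_eq_smul_one, ← smul_tmul]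
    congr 1
    rw [show d ⊗ₜ[C] c = d • ((1 : D) ⊗ₜ[C] c) by rw [smul_tmul', smul_eq_mul, mul_one], map_smul, hρ,
      Algebra.smul_def, smul_eq_mul, mul_comm]
  | add x y hx hy => simp only [map_add, hx, hy, add_tmul]

end Stage

theorem nonempty_stageResult (h : Data (C' := C') σ τ σ' τ' φ) {q' : Ideal C'} {D : Type u} [CommRing D]
    [Algebra C D] [Algebra.Etale C D] (L : LocalData h q' D) :
    Nonempty (StageResult (C := C) (A := A) (A' := A') q' D) := by
  obtain ⟨π, hπ, hcompat, P, hP, hPq⟩ := L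
  obtain ⟨e, he, hker⟩ := exists_idempotent_ker D π hπ
  obtain ⟨r, hrφ, hrσ⟩ := h.desc (D ⊗[C] B) Algebra.TensorProduct.includeRight
    ((Algebra.TensorProduct.map (AlgHom.id C D) σ).comp π) (AlgHom.ext fun a => by
      show (1 : D) ⊗ₜ[C] σ a = Algebra.TensorProduct.map (AlgHom.id C D) σ (π (algebraMap A A' a))
      rw [show π (algebraMap A A' a) = (1 : D) ⊗ₜ[C] a from DFunLike.congr_fun hπ a,
        Algebra.TensorProduct.map_tmul, map_one])
  have hrτ := hcompat r hrφ hrσ
  have hinv := bc_eq_bc h π hπ r hrφ hrσ hrτ e he hker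
  have hinj := algebraMap_injective_tensor (D := D) h.inj
  have hι'inj : Function.Injective (bc D (IsScalarTower.toAlgHom C C' A')) :=
    Module.Flat.lTensor_preserves_injective_linearMap (M := D) (IsScalarTower.toAlgHom C C' A').toLinearMap h.inj'
  obtain ⟨c₀, hc₀⟩ : ∃ c₀, bc D (IsScalarTower.toAlgHom C C' A') c₀ = e :=
    exists_preimage_of_flat D (IsScalarTower.toAlgHom C C' A').toLinearMap σ'.toLinearMap τ'.toLinearMap
      h.inv'_mem (fun q hq => h.inv' q hq) e hinv
  choose ρ₀ hρ₀ using exists_algebraMap_eq h π r hrσ hrτ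
  let ρ : C' →ₐ[C] D :=
    { toFun := ρ₀
      map_one' := hinj (by rw [hρ₀]; simp only [map_one])
      map_mul' := fun a b => hinj (by rw [map_mul, hρ₀, hρ₀, hρ₀, map_mul, map_mul])
      map_zero' := hinj (by rw [hρ₀]; simp only [map_zero])
      map_add' := fun a b => hinj (by rw [map_add, hρ₀, hρ₀, hρ₀, map_add, map_add])
      commutes' := fun c => hinj (by
        rw [hρ₀, ← IsScalarTower.algebraMap_apply, ← IsScalarTower.algebraMap_apply, π.commutes]) }
  have hρ : ∀ c, algebraMap D (D ⊗[C] A) (ρ c) = π (algebraMap C' A' c) := hρ₀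
  let ρD : D ⊗[C] C' →ₐ[D] D :=
    Algebra.TensorProduct.lift (Algebra.ofId D D) ρ fun _ _ => Commute.all _ _
  have hρ1 : ∀ c, ρD ((1 : D) ⊗ₜ[C] c) = ρ c := fun c =>
    (Algebra.TensorProduct.lift_tmul _ _ _ _ _).trans (by rw [map_one, one_mul])
  have hρD : ∀ x, algebraMap D (D ⊗[C] A) (ρD x) = retr π (bc D (IsScalarTower.toAlgHom C C' A') x) := fun x => by
    refine DFunLike.congr_fun (show (Algebra.ofId D (D ⊗[C] A)).comp ρD =
      (retr π).comp (bc D (IsScalarTower.toAlgHom C C' A')) from Algebra.TensorProduct.ext' fun d c => ?_) x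
    simp only [AlgHom.comp_apply, Algebra.TensorProduct.map_tmul, Algebra.TensorProduct.lift_tmul,
      AlgHom.id_apply]
    rw [show ρD (d ⊗ₜ[C] c) = Algebra.ofId D D d * ρ c from Algebra.TensorProduct.lift_tmul _ _ _ _ _, map_mul]
    refine congrArg₂ (· * ·) ?_ (hρ c)
    exact AlgHom.commutes _ d
  have hθe : retr π e = 0 := hker.ge (Ideal.mem_span_singleton_self e)
  have hρc₀ : ρD c₀ = 0 := hinj (by rw [hρD, hc₀, hθe, map_zero])
  have hρker : RingHom.ker ρD.toRingHom = Ideal.span {c₀} := by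
    refine le_antisymm (fun x hx => ?_) ?_
    · have h1 : bc D (IsScalarTower.toAlgHom C C' A') x ∈ Ideal.span {e} := by
        rw [← hker, RingHom.mem_ker, ← hρD, show ρD x = 0 from hx, map_zero]
      obtain ⟨a, ha⟩ := Ideal.mem_span_singleton'.1 h1
      refine Ideal.mem_span_singleton'.2 ⟨x, hι'inj ?_⟩
      rw [map_mul, hc₀, ← ha, mul_assoc, he.eq]
    · rw [Ideal.span_singleton_le_iff_mem]
      exact hρc₀
  have hc₀idem : IsIdempotentElem c₀ := hι'inj (by rw [map_mul, hc₀, he.eq])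
  have hcomp : (ρD.restrictScalars C).comp Algebra.TensorProduct.includeRight = ρ := AlgHom.ext hρ1
  refine ⟨⟨ρ, hcomp ▸ etale_of_ker_eq_span ρD hc₀idem hρker,
    ⟨P.comap (algebraMap D (D ⊗[C] A)), P.comap_isPrime _, ?_⟩, ?_⟩⟩
  · rw [← hPq, Ideal.comap_comap]
    exact congrArg (fun f => P.comap f) (RingHom.ext hρ)
  · letI : Algebra C' D := ρ.toRingHom.toAlgebra
    haveI : IsScalarTower C C' D := IsScalarTower.of_algebraMap_eq fun c => (ρ.commutes c).symm
    refine bijective_lTensor π hπ (fun c => (hρ c).symm) e hker ?_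
    rw [← hc₀, toTensor_bc ρD hρ1, hρc₀, zero_tmul]

/-- A linear map which is bijective after flat base changes covering all maximal ideals is bijective. -/
theorem bijective_of_forall_lTensor {R : Type u} [CommRing R] {M N : Type u} [AddCommGroup M] [Module R M]
    [AddCommGroup N] [Module R N] (f : M →ₗ[R] N)
    (h : ∀ m : Ideal R, m.IsMaximal → ∃ (D : Type u) (_ : CommRing D) (_ : Algebra R D), Module.Flat R D ∧
      (∃ Q : Ideal D, Q.IsPrime ∧ Q.comap (algebraMap R D) = m) ∧ Function.Bijective (f.lTensor D)) :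
    Function.Bijective f := by
  have key : ∀ {P : Type u} [AddCommGroup P] [Module R P] (x : P), x ≠ 0 →
      ∃ (D : Type u) (_ : CommRing D) (_ : Algebra R D), Module.Flat R D ∧ Function.Bijective (f.lTensor D) ∧
        (1 : D) ⊗ₜ[R] x ≠ 0 := by
    intro P _ _ x hx
    let ann := LinearMap.ker (LinearMap.toSpanSingleton R P x)
    obtain ⟨m, hm, hle⟩ := Ideal.exists_le_maximal ann ((Ideal.ne_top_iff_one _).2 (by simpa [ann] using hx))
    obtain ⟨D, iD, iA, hflat, ⟨Q, hQ, hQm⟩, hbij⟩ := h m hm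
    refine ⟨D, iD, iA, hflat, hbij, fun h0 => ?_⟩
    let sl : (R ⧸ ann) →ₗ[R] P := ann.liftQ (LinearMap.toSpanSingleton R P x) le_rfl
    have hsl : Function.Injective sl := LinearMap.ker_eq_bot.1 (Submodule.ker_liftQ_eq_bot _ _ _ le_rfl)
    have h1 : (1 : D) ⊗ₜ[R] (Submodule.Quotient.mk (1 : R) : R ⧸ ann) = 0 :=
      Module.Flat.lTensor_preserves_injective_linearMap (M := D) sl hsl (by
        rw [map_zero, LinearMap.lTensor_tmul, show sl (Submodule.Quotient.mk (1 : R)) = x from one_smul R x]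
        exact h0)
    let e : (R ⧸ ann) →ₗ[R] D ⧸ Q := ann.liftQ (Algebra.linearMap R (D ⧸ Q)) fun c hc => by
      rw [LinearMap.mem_ker, Algebra.linearMap_apply, IsScalarTower.algebraMap_apply R D (D ⧸ Q)]
      exact Ideal.Quotient.eq_zero_iff_mem.2 (show c ∈ Q.comap (algebraMap R D) by rw [hQm]; exact hle hc)
    have h2 := congrArg (TensorProduct.lift (LinearMap.mk₂ R (fun (d : D) (y : R ⧸ ann) => d • e y)
      (fun _ _ _ => add_smul _ _ _) (fun _ _ _ => smul_assoc _ _ _)
      (fun _ _ _ => by rw [map_add, smul_add]) (fun _ _ _ => by rw [map_smul, smul_comm]))) h1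
    rw [TensorProduct.lift.tmul, map_zero, LinearMap.mk₂_apply, one_smul] at h2
    have : (1 : D ⧸ Q) = 0 := by rw [← h2]; exact (map_one (algebraMap R (D ⧸ Q))).symm
    exact hQ.ne_top ((Ideal.eq_top_iff_one _).2 (Ideal.Quotient.eq_zero_iff_mem.1 this))
  refine ⟨(injective_iff_map_eq_zero f).2 fun x hx => ?_, LinearMap.range_eq_top.1 ?_⟩
  · by_contra hne
    obtain ⟨D, _, _, _, hbij, hne'⟩ := key x hne
    exact hne' (hbij.1 (by rw [LinearMap.lTensor_tmul, hx, tmul_zero, map_zero]))
  · refine Submodule.eq_top_iff'.2 fun y => by_contra fun hy => ?_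
    obtain ⟨D, _, _, _, hbij, hne'⟩ := key (Submodule.Quotient.mk (p := LinearMap.range f) y)
      (by rwa [Ne, Submodule.Quotient.mk_eq_zero])
    obtain ⟨w, hw⟩ := hbij.2 ((1 : D) ⊗ₜ[R] y)
    apply hne'
    have h3 := congrArg ((LinearMap.range f).mkQ.lTensor D) hw
    rw [LinearMap.lTensor_tmul, ← LinearMap.comp_apply, ← LinearMap.lTensor_comp, LinearMap.range_mkQ_comp,
      LinearMap.lTensor_zero] at h3
    exact h3.symm

variable [Algebra.IsIntegral C A] [Algebra.IsIntegral C B]

/-- The map on invariants is etale. -/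
theorem etale_invariants (h : Data (C' := C') σ τ σ' τ' φ)
    (hlift : ∀ q' : Ideal C', q'.IsPrime → ∃ P : Ideal A', P.IsPrime ∧ P.comap (algebraMap C' A') = q') :
    Etale (Spec.map (CommRingCat.ofHom (algebraMap C C'))) ∧
      Function.Bijective (Algebra.TensorProduct.lift (Algebra.ofId C' A') (IsScalarTower.toAlgHom C A A')
        fun _ _ => Commute.all _ _) := by
  have hstage : ∀ q : PrimeSpectrum C', ∃ (D : Type u) (_ : CommRing D) (_ : Algebra C D),
      Algebra.Etale C D ∧ Nonempty (StageResult (C := C) (A := A) (A' := A') q.asIdeal D) := fun q => by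
    obtain ⟨P, hP, hPq⟩ := hlift q.asIdeal q.2
    obtain ⟨D, iD, iA, hD, ⟨L⟩⟩ := exists_localData h P
    exact ⟨D, iD, iA, hD, hPq ▸ nonempty_stageResult h L⟩
  choose D iD iA hD hR using hstage
  let R := fun q => (hR q).some
  refine ⟨?_, bijective_of_forall_lTensor (Algebra.TensorProduct.lift (Algebra.ofId C' A')
    (IsScalarTower.toAlgHom C A A') fun _ _ => Commute.all _ _).toLinearMap fun m hm => ?_⟩
  · let g := Spec.map (CommRingCat.ofHom (algebraMap C C'))
    let f := fun q : PrimeSpectrum C' => Spec.map (CommRingCat.ofHom (R q).ρ.toRingHom)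
    let χ := Sigma.desc f
    haveI : ∀ q, Etale (f q) := fun q => (HasRingHomProperty.Spec_iff (P := @Etale)).2 (R q).etale
    haveI : Etale χ := IsZariskiLocalAtSource.sigmaDesc fun q => inferInstance
    haveI : Surjective χ := ⟨fun x => by
      obtain ⟨Q, hQ, hQx⟩ := (R x).point
      refine ⟨(Sigma.ι (fun q => Spec (CommRingCat.of (D q))) x).base ⟨Q, hQ⟩, ?_⟩
      rw [← Scheme.Hom.comp_apply, Sigma.ι_desc]
      exact PrimeSpectrum.ext hQx⟩
    haveI : Etale (χ ≫ g) := by
      rw [show χ ≫ g = Sigma.desc fun q => f q ≫ g from Sigma.hom_ext _ _ fun q => by simp [χ]]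
      refine IsZariskiLocalAtSource.sigmaDesc fun q => ?_
      have hcomp : CommRingCat.ofHom (algebraMap C C') ≫ CommRingCat.ofHom (R q).ρ.toRingHom =
          CommRingCat.ofHom (algebraMap C (D q)) := CommRingCat.hom_ext (RingHom.ext fun c => (R q).ρ.commutes c)
      rw [← Spec.map_comp, hcomp]
      exact (HasRingHomProperty.Spec_iff (P := @Etale)).2 (RingHom.etale_algebraMap.2 (hD q))
    exact Groth.AlgSpBasic.SourceDescent.etale_of_comp_surjective χ g
  · let q : PrimeSpectrum C' := ⟨m, hm.isPrime⟩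
    letI : Algebra C' (D q) := (R q).ρ.toRingHom.toAlgebra
    haveI : Algebra.Etale C' (D q) := (R q).etale
    exact ⟨D q, inferInstance, inferInstance, inferInstance, (R q).point, (R q).bij⟩

end Groth.EtQuot
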