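import Groth.Agent.GitQuot.EtQuot.Global
import Groth.Agent.GitQuot.AffGpd.Points

/-!
# Etale morphisms of affine groupoid schemes: the map on quotients
-/

set_option autoImplicit false

universe u

open TensorProduct CategoryTheory CategoryTheory.Limits AlgebraicGeometry Grpd

noncomputable section

namespace Groth.EtQuot

/-- The point of an affine scheme given by a map on global functions. -/
def pt {X : Scheme.{u}} [IsAffine X] {K : Type u} [CommRing K] (x : Γ(X, ⊤) →+* K) :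
    Spec (CommRingCat.of K) ⟶ X :=
  Spec.map (CommRingCat.ofHom (R := Γ(X, ⊤)) x) ≫ X.isoSpec.inv

theorem pt_comp {X Y : Scheme.{u}} [IsAffine X] [IsAffine Y] {K : Type u} [CommRing K] (x : Γ(X, ⊤) →+* K)
    (f : X ⟶ Y) : pt x ≫ f = pt (x.comp f.appTop.hom) := by
  rw [pt, pt, Category.assoc, ← Scheme.isoSpec_inv_naturality, ← Category.assoc, ← Spec.map_comp]
  rfl

theorem pt_injective {X : Scheme.{u}} [IsAffine X] {K : Type u} [CommRing K] {x y : Γ(X, ⊤) →+* K}
    (h : pt x = pt y) : x = y :=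
  congrArg CommRingCat.Hom.hom (Spec.map_injective ((cancel_mono X.isoSpec.inv).1 h))

theorem exists_pt_eq {X : Scheme.{u}} [IsAffine X] {K : Type u} [CommRing K]
    (p : Spec (CommRingCat.of K) ⟶ X) : ∃ x, pt x = p := by
  obtain ⟨x, hx⟩ := Spec.map_surjective (p ≫ X.isoSpec.hom)
  exact ⟨x.hom, (show pt x.hom = Spec.map x ≫ X.isoSpec.inv from rfl).trans
    (by rw [hx, Category.assoc, Iso.hom_inv_id, Category.comp_id])⟩

theorem exists_desc_pushout {A B A' B' : CommRingCat.{u}} {f : A ⟶ B} {g : A ⟶ A'} {i : B ⟶ B'} {j : A' ⟶ B'}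
    (h : IsPushout f g i j) {T : Type u} [CommRing T] (r : B →+* T) (x : A' →+* T)
    (hrx : r.comp f.hom = x.comp g.hom) : ∃ r' : B' →+* T, r'.comp i.hom = r ∧ r'.comp j.hom = x :=
  ⟨(h.desc (CommRingCat.ofHom r) (CommRingCat.ofHom x) (CommRingCat.hom_ext hrx)).hom,
    congrArg CommRingCat.Hom.hom (h.inl_desc _ _ _), congrArg CommRingCat.Hom.hom (h.inr_desc _ _ _)⟩

theorem ext_pushout {A B A' B' : CommRingCat.{u}} {f : A ⟶ B} {g : A ⟶ A'} {i : B ⟶ B'} {j : A' ⟶ B'}
    (h : IsPushout f g i j) {T : Type u} [CommRing T] (r₁ r₂ : B' →+* T)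
    (h₁ : r₁.comp i.hom = r₂.comp i.hom) (h₂ : r₁.comp j.hom = r₂.comp j.hom) : r₁ = r₂ :=
  congrArg CommRingCat.Hom.hom (show CommRingCat.ofHom (R := B') r₁ = CommRingCat.ofHom r₂ from
    h.hom_ext (CommRingCat.hom_ext h₁) (CommRingCat.hom_ext h₂))

variable {S : Scheme.{u}} {G' G : GroupoidScheme S} (f : GroupoidScheme.Hom G' G)

theorem comm_s_appTop : (f.fR.appTop.hom).comp G.s.appTop.hom = (G'.s.appTop.hom).comp f.fU.appTop.hom := by
  rw [← CommRingCat.hom_comp, ← CommRingCat.hom_comp, ← Scheme.Hom.comp_appTop, ← Scheme.Hom.comp_appTop, f.comm_s]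

theorem comm_t_appTop : (f.fR.appTop.hom).comp G.t.appTop.hom = (G'.t.appTop.hom).comp f.fU.appTop.hom := by
  rw [← CommRingCat.hom_comp, ← CommRingCat.hom_comp, ← Scheme.Hom.comp_appTop, ← Scheme.Hom.comp_appTop, f.comm_t]

/-- The map on invariant rings. -/
def invMap : G.invariants →+* G'.invariants :=
  (f.fU.appTop.hom.comp G.invariants.subtype).codRestrict G'.invariants fun a => by
    show G'.s.appTop.hom (f.fU.appTop.hom a) = G'.t.appTop.hom (f.fU.appTop.hom a)
    rw [← RingHom.comp_apply, ← comm_s_appTop, ← RingHom.comp_apply G'.t.appTop.hom, ← comm_t_appTop]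
    exact congrArg f.fR.appTop.hom a.2

/-- The map on quotients. -/
def quotMap : Spec (CommRingCat.of G'.invariants) ⟶ Spec (CommRingCat.of G.invariants) :=
  Spec.map (CommRingCat.ofHom (invMap f))

theorem toQuot_quotMap : G'.toQuot ≫ quotMap f = f.fU ≫ G.toQuot := by
  rw [GroupoidScheme.toQuot, GroupoidScheme.toQuot, quotMap, Category.assoc, ← Spec.map_comp,
    Scheme.toSpecΓ_naturality_assoc, ← Spec.map_comp]
  rfl

theorem eq_quotMap [IsAffine G'.U] (g : Spec (CommRingCat.of G'.invariants) ⟶ Spec (CommRingCat.of G.invariants))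
    (hg : G'.toQuot ≫ g = f.fU ≫ G.toQuot) : g = quotMap f := by
  rw [← toQuot_quotMap] at hg
  obtain ⟨γ, rfl⟩ := Spec.map_surjective g
  rw [GroupoidScheme.toQuot, quotMap, Category.assoc, Category.assoc, cancel_epi, ← Spec.map_comp,
    ← Spec.map_comp] at hg
  have h := Spec.map_injective hg
  refine congrArg Spec.map (CommRingCat.hom_ext (RingHom.ext fun a => ?_))
  exact Subtype.ext (congrArg (fun k : CommRingCat.of G.invariants ⟶ Γ(G'.U, ⊤) => k.hom a) h)

theorem stab_fst_t : pullback.fst G.j G.diag ≫ G.t = G.stabilizerToU := by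
  have h := congrArg (· ≫ pullback.fst G.pU G.pU) (pullback.condition (f := G.j) (g := G.diag))
  simp only [Category.assoc, GroupoidScheme.j, GroupoidScheme.diag, pullback.lift_fst, Category.comp_id] at h
  exact h

theorem stab_fst_s : pullback.fst G.j G.diag ≫ G.s = G.stabilizerToU := by
  have h := congrArg (· ≫ pullback.snd G.pU G.pU) (pullback.condition (f := G.j) (g := G.diag))
  simp only [Category.assoc, GroupoidScheme.j, GroupoidScheme.diag, pullback.lift_snd, Category.comp_id] at h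
  exact h

theorem exists_loop [IsAffine G.U] [IsAffine G.R] [IsAffine G'.U] [IsAffine G'.R]
    (hstab : ∃ g : G'.stabilizer ⟶ G.stabilizer, g ≫ pullback.fst G.j G.diag = pullback.fst G'.j G'.diag ≫ f.fR ∧
      IsPullback g G'.stabilizerToU G.stabilizerToU f.fU)
    {K : Type u} [CommRing K] (r : Γ(G.R, ⊤) →+* K) (x' : Γ(G'.U, ⊤) →+* K)
    (hst : r.comp G.s.appTop.hom = r.comp G.t.appTop.hom)
    (hx : r.comp G.s.appTop.hom = x'.comp f.fU.appTop.hom) :
    ∃ r' : Γ(G'.R, ⊤) →+* K, r'.comp f.fR.appTop.hom = r ∧ r'.comp G'.s.appTop.hom = x' ∧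
      r'.comp G'.t.appTop.hom = x' := by
  obtain ⟨g, hg, hpb⟩ := hstab
  have hloop : pt r ≫ G.j = (pt x' ≫ f.fU) ≫ G.diag := by
    apply pullback.hom_ext
    · simp only [Category.assoc, GroupoidScheme.j, GroupoidScheme.diag, pullback.lift_fst, Category.comp_id]
      rw [pt_comp, pt_comp, ← hst, hx]
    · simp only [Category.assoc, GroupoidScheme.j, GroupoidScheme.diag, pullback.lift_snd, Category.comp_id]
      rw [pt_comp, pt_comp, hx]
  let ξ : Spec (CommRingCat.of K) ⟶ G.stabilizer := pullback.lift (pt r) (pt x' ≫ f.fU) hloop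
  have hξ : ξ ≫ G.stabilizerToU = pt x' ≫ f.fU := pullback.lift_snd _ _ _
  obtain ⟨r', hr'⟩ := exists_pt_eq (hpb.lift ξ (pt x') hξ ≫ pullback.fst G'.j G'.diag)
  refine ⟨r', pt_injective ?_, pt_injective ?_, pt_injective ?_⟩
  · rw [← pt_comp, hr', Category.assoc]; erw [← hg, hpb.lift_fst_assoc]
    exact pullback.lift_fst _ _ _
  · rw [← pt_comp, hr', Category.assoc]; erw [stab_fst_s, hpb.lift_snd]
  · rw [← pt_comp, hr', Category.assoc]; erw [stab_fst_t, hpb.lift_snd]

/-- The map on quotients is etale and the square is cartesian. -/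
theorem etale_isPullback [IsAffine G.U] [IsAffine G.R] [IsAffine G'.U] [IsAffine G'.R]
    [IsFinite G.s] [Flat G.s] [LocallyOfFinitePresentation G.s]
    [IsFinite G'.s] [Flat G'.s] [LocallyOfFinitePresentation G'.s]
    (hs : IsPullback f.fR G'.s G.s f.fU) (ht : IsPullback f.fR G'.t G.t f.fU)
    (hstab : ∃ g : G'.stabilizer ⟶ G.stabilizer, g ≫ pullback.fst G.j G.diag = pullback.fst G'.j G'.diag ≫ f.fR ∧
      IsPullback g G'.stabilizerToU G.stabilizerToU f.fU) [Etale f.fU] :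
    Etale (quotMap f) ∧ IsPullback f.fU G'.toQuot G.toQuot (quotMap f) := by
  classical
  letI algAA' : Algebra Γ(G.U, ⊤) Γ(G'.U, ⊤) := f.fU.appTop.hom.toAlgebra
  letI algCC' : Algebra G.invariants G'.invariants := (invMap f).toAlgebra
  letI algCA' : Algebra G.invariants Γ(G'.U, ⊤) := (f.fU.appTop.hom.comp G.invariants.subtype).toAlgebra
  letI algCB : Algebra G.invariants Γ(G.R, ⊤) := (G.s.appTop.hom.comp G.invariants.subtype).toAlgebra
  letI algCB' : Algebra G.invariants Γ(G'.R, ⊤) :=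
    (G'.s.appTop.hom.comp (f.fU.appTop.hom.comp G.invariants.subtype)).toAlgebra
  haveI : IsScalarTower G.invariants G'.invariants Γ(G'.U, ⊤) := IsScalarTower.of_algebraMap_eq fun _ => rfl
  haveI : IsScalarTower G.invariants Γ(G.U, ⊤) Γ(G'.U, ⊤) := IsScalarTower.of_algebraMap_eq fun _ => rfl
  haveI : Algebra.Etale Γ(G.U, ⊤) Γ(G'.U, ⊤) :=
    (HasRingHomProperty.iff_of_isAffine (P := @Etale) (f := f.fU)).1 inferInstance
  let σ : Γ(G.U, ⊤) →ₐ[G.invariants] Γ(G.R, ⊤) := { G.s.appTop.hom with commutes' := fun _ => rfl }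
  let τ : Γ(G.U, ⊤) →ₐ[G.invariants] Γ(G.R, ⊤) := { G.t.appTop.hom with commutes' := fun c => c.2.symm }
  let σ' : Γ(G'.U, ⊤) →ₐ[G.invariants] Γ(G'.R, ⊤) := { G'.s.appTop.hom with commutes' := fun _ => rfl }
  let τ' : Γ(G'.U, ⊤) →ₐ[G.invariants] Γ(G'.R, ⊤) :=
    { G'.t.appTop.hom with commutes' := fun c => (invMap f c).2.symm }
  let φ : Γ(G.R, ⊤) →ₐ[G.invariants] Γ(G'.R, ⊤) :=
    { f.fR.appTop.hom with
      commutes' := fun c => DFunLike.congr_fun (comm_s_appTop f) (c : Γ(G.U, ⊤)) }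
  haveI hintA : Algebra.IsIntegral G.invariants Γ(G.U, ⊤) := (Groth.AffGpd.ofScheme G).isIntegral
  haveI hintB : Algebra.IsIntegral G.invariants Γ(G.R, ⊤) := by
    letI := G.s.appTop.hom.toAlgebra
    haveI : IsScalarTower G.invariants Γ(G.U, ⊤) Γ(G.R, ⊤) := IsScalarTower.of_algebraMap_eq fun _ => rfl
    haveI : Module.Finite Γ(G.U, ⊤) Γ(G.R, ⊤) := G.s.finite_appTop
    exact Algebra.IsIntegral.trans Γ(G.U, ⊤)
  have harrow : ∀ (K : Type u) [Field K] [IsAlgClosed K] [Algebra G.invariants K]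
      (x₀ x₁ : Γ(G.U, ⊤) →ₐ[G.invariants] K),
      ∃ r : Γ(G.R, ⊤) →ₐ[G.invariants] K, r.comp σ = x₀ ∧ r.comp τ = x₁ := by
    intro K _ _ _ x₀ x₁
    obtain ⟨ρ, hρt, hρs⟩ := (Groth.AffGpd.ofScheme G).exists_arrow_field x₁.toRingHom x₀.toRingHom
      fun a ha => (x₁.commutes ⟨a, ha⟩).trans (x₀.commutes ⟨a, ha⟩).symm
    refine ⟨{ ρ with commutes' := fun c => (DFunLike.congr_fun hρs (c : Γ(G.U, ⊤))).trans (x₀.commutes c) },
      AlgHom.ext fun a => DFunLike.congr_fun hρs a, AlgHom.ext fun a => DFunLike.congr_fun hρt a⟩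
  have hdata : Data (C' := G'.invariants) σ τ σ' τ' φ := by
    constructor
    · exact Subtype.val_injective
    · exact fun a ha => ⟨⟨a, ha⟩, rfl⟩
    · exact Subtype.val_injective
    · exact fun a ha => ⟨⟨a, ha⟩, rfl⟩
    · exact fun c => c.2
    · intro K _ _ _
      rcases isEmpty_or_nonempty (Γ(G.U, ⊤) →ₐ[G.invariants] K) with h | ⟨⟨x₀⟩⟩
      · infer_instance
      · choose r hrσ hrτ using harrow K x₀
        letI : Algebra Γ(G.U, ⊤) Γ(G.R, ⊤) := G.s.appTop.hom.toAlgebra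
        letI : Algebra Γ(G.U, ⊤) K := x₀.toRingHom.toAlgebra
        haveI : Module.Finite Γ(G.U, ⊤) Γ(G.R, ⊤) := G.s.finite_appTop
        refine Finite.of_injective (fun x => ({ (r x).toRingHom with
          commutes' := fun a => DFunLike.congr_fun (hrσ x) a } : Γ(G.R, ⊤) →ₐ[Γ(G.U, ⊤)] K)) fun x y hxy => ?_
        rw [← hrτ x, ← hrτ y]
        exact AlgHom.ext fun a => DFunLike.congr_fun hxy (τ a)
    · exact harrow
    · intro K _ _ _ x₀ x₁ h
      obtain ⟨ρ, hρt, hρs⟩ := (Groth.AffGpd.ofScheme G').exists_arrow_field x₁.toRingHom x₀.toRingHom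
        fun a ha => (h ⟨a, ha⟩).symm
      refine ⟨{ ρ with commutes' := fun c =>
          (DFunLike.congr_fun hρs (invMap f c : Γ(G'.U, ⊤))).trans (x₀.commutes c) },
        AlgHom.ext fun a => DFunLike.congr_fun hρs a, AlgHom.ext fun a => DFunLike.congr_fun hρt a⟩
    · exact AlgHom.ext fun a => (DFunLike.congr_fun (comm_t_appTop f) a).symm
    · exact AlgHom.ext fun a => (DFunLike.congr_fun (comm_s_appTop f) a).symm
    · intro T _ _ r x hrx
      obtain ⟨r', h₁, h₂⟩ := exists_desc_pushout (isPushout_appTop_of_isPullback hs) r.toRingHom x.toRingHom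
        (congrArg AlgHom.toRingHom hrx)
      exact ⟨{ r' with commutes' := fun c =>
          (DFunLike.congr_fun h₂ (f.fU.appTop.hom (c : Γ(G.U, ⊤)))).trans (x.commutes c) },
        AlgHom.ext fun a => DFunLike.congr_fun h₁ a, AlgHom.ext fun a => DFunLike.congr_fun h₂ a⟩
    · intro T _ _ r₁ r₂ h₁ h₂
      exact AlgHom.coe_ringHom_injective (ext_pushout (isPushout_appTop_of_isPullback hs) _ _
        (congrArg AlgHom.toRingHom h₁) (congrArg AlgHom.toRingHom h₂))
    · intro T _ _ r₁ r₂ h₁ h₂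
      exact AlgHom.coe_ringHom_injective (ext_pushout (isPushout_appTop_of_isPullback ht) _ _
        (congrArg AlgHom.toRingHom h₁) (congrArg AlgHom.toRingHom h₂))
    · intro K _ _ _ r x' hloop hx
      obtain ⟨r', h₁, h₂, h₃⟩ := exists_loop f hstab r.toRingHom x'.toRingHom
        (congrArg AlgHom.toRingHom hloop) (congrArg AlgHom.toRingHom hx)
      exact ⟨{ r' with commutes' := fun c =>
          (DFunLike.congr_fun h₂ (f.fU.appTop.hom (c : Γ(G.U, ⊤)))).trans (x'.commutes c) },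
        AlgHom.ext fun a => DFunLike.congr_fun h₁ a, AlgHom.ext fun a => DFunLike.congr_fun h₂ a,
        AlgHom.ext fun a => DFunLike.congr_fun h₃ a⟩
  obtain ⟨het, hbij⟩ := etale_invariants hdata fun q' hq' => by
    obtain ⟨P, hP⟩ := (Groth.AffGpd.ofScheme G').comap_surjective (⟨q', hq'⟩ : PrimeSpectrum G'.invariants)
    exact ⟨P.asIdeal, P.isPrime, congrArg PrimeSpectrum.asIdeal hP⟩
  refine ⟨het, ?_⟩
  let m := AlgEquiv.ofBijective _ hbij
  have hpo : IsPushout (CommRingCat.ofHom (invMap f)) (CommRingCat.ofHom G.invariants.subtype)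
      (CommRingCat.ofHom G'.invariants.subtype) f.fU.appTop := by
    refine (CommRingCat.isPushout_tensorProduct G.invariants G'.invariants Γ(G.U, ⊤)).of_iso
      (Iso.refl _) (Iso.refl _) (Iso.refl _) (m.toRingEquiv.toCommRingCatIso) ?_ ?_ ?_ ?_
    · simp
    · simp; rfl
    · refine CommRingCat.hom_ext (RingHom.ext fun c => ?_)
      exact (Algebra.TensorProduct.lift_tmul _ _ (fun _ _ => Commute.all _ _) c 1).trans (by simp; rfl)
    · refine CommRingCat.hom_ext (RingHom.ext fun a => ?_)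
      exact (Algebra.TensorProduct.lift_tmul _ _ (fun _ _ => Commute.all _ _) 1 a).trans (by simp; rfl)
  refine ((isPullback_SpecMap_of_isPushout _ _ _ _ hpo).flip).of_iso G'.U.isoSpec.symm G.U.isoSpec.symm
    (Iso.refl _) (Iso.refl _) ?_ ?_ ?_ ?_
  · exact Scheme.isoSpec_inv_naturality _
  · rw [Iso.refl_hom, Category.comp_id, GroupoidScheme.toQuot, Iso.symm_hom, ← Category.assoc,
      show G'.U.isoSpec.inv ≫ G'.U.toSpecΓ = 𝟙 _ from G'.U.isoSpec.inv_hom_id]
    exact (Category.id_comp _).symm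
  · rw [Iso.refl_hom, Category.comp_id, GroupoidScheme.toQuot, Iso.symm_hom, ← Category.assoc,
      show G.U.isoSpec.inv ≫ G.U.toSpecΓ = 𝟙 _ from G.U.isoSpec.inv_hom_id]
    exact (Category.id_comp _).symm
  · rw [Iso.refl_hom, Iso.refl_hom, Category.comp_id, Category.id_comp, quotMap]

end Groth.EtQuot
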