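import Groth.Agent.Sga3.HensPoint
import Groth.Agent.Hensel1.BaseLift
import Groth.Agent.Hensel1.Local
import Mathlib

/-!
# Etale morphisms of affine groupoids: the retraction over a strictly henselian ring

`C` is the ring of invariants of `(A, B)`, `C'` that of `(A', B')`, and `A → A'` is etale, compatible with the
groupoid structures and preserving stabilizers.  For a point of `C'` the algebra `A'` retracts onto `A` over the
strict henselization of `C`, compatibly with source and target.
-/

set_option autoImplicit false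

universe u

open TensorProduct IsLocalRing

noncomputable section

namespace Groth.EtQuot

variable {C A B A' B' C' : Type u} [CommRing C] [CommRing A] [CommRing B] [CommRing A'] [CommRing B']
  [CommRing C'] [Algebra C A] [Algebra C B] [Algebra C A'] [Algebra C B'] [Algebra C C'] [Algebra C' A']
  [IsScalarTower C C' A'] [Algebra A A'] [IsScalarTower C A A']

/-- The hypotheses: invariants, arrows between geometric points, the two cartesian squares and the
stabilizer condition. -/
structure Data (σ τ : A →ₐ[C] B) (σ' τ' : A' →ₐ[C] B') (φ : B →ₐ[C] B') : Prop where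
  inj : Function.Injective (algebraMap C A)
  inv : ∀ a, σ a = τ a → a ∈ (algebraMap C A).range
  inj' : Function.Injective (algebraMap C' A')
  inv' : ∀ a, σ' a = τ' a → a ∈ (algebraMap C' A').range
  inv'_mem : ∀ c : C', σ' (algebraMap C' A' c) = τ' (algebraMap C' A' c)
  finite : ∀ (K : Type u) [Field K] [IsAlgClosed K] [Algebra C K], Finite (A →ₐ[C] K)
  arrow : ∀ (K : Type u) [Field K] [IsAlgClosed K] [Algebra C K] (x₀ x₁ : A →ₐ[C] K),
    ∃ r : B →ₐ[C] K, r.comp σ = x₀ ∧ r.comp τ = x₁
  arrow' : ∀ (K : Type u) [Field K] [IsAlgClosed K] [Algebra C K] (x₀ x₁ : A' →ₐ[C] K),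
    (∀ c : C', x₀ (algebraMap C' A' c) = x₁ (algebraMap C' A' c)) →
      ∃ r : B' →ₐ[C] K, r.comp σ' = x₀ ∧ r.comp τ' = x₁
  commτ : τ'.comp (IsScalarTower.toAlgHom C A A') = φ.comp τ
  commσ : σ'.comp (IsScalarTower.toAlgHom C A A') = φ.comp σ
  desc : ∀ (T : Type u) [CommRing T] [Algebra C T] (r : B →ₐ[C] T) (x : A' →ₐ[C] T),
    r.comp σ = x.comp (IsScalarTower.toAlgHom C A A') →
      ∃ r' : B' →ₐ[C] T, r'.comp φ = r ∧ r'.comp σ' = x
  extσ : ∀ (T : Type u) [CommRing T] [Algebra C T] (r₁ r₂ : B' →ₐ[C] T),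
    r₁.comp φ = r₂.comp φ → r₁.comp σ' = r₂.comp σ' → r₁ = r₂
  extτ : ∀ (T : Type u) [CommRing T] [Algebra C T] (r₁ r₂ : B' →ₐ[C] T),
    r₁.comp φ = r₂.comp φ → r₁.comp τ' = r₂.comp τ' → r₁ = r₂
  stab : ∀ (K : Type u) [Field K] [IsAlgClosed K] [Algebra C K] (r : B →ₐ[C] K) (x' : A' →ₐ[C] K),
    r.comp σ = r.comp τ → r.comp σ = x'.comp (IsScalarTower.toAlgHom C A A') →
      ∃ r' : B' →ₐ[C] K, r'.comp φ = r ∧ r'.comp σ' = x' ∧ r'.comp τ' = x'

variable {σ τ : A →ₐ[C] B} {σ' τ' : A' →ₐ[C] B'} {φ : B →ₐ[C] B'}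

/-- A point of `C'` selects one point of `A'` over each point of `A`. -/
theorem Data.existsUnique_point (h : Data (C' := C') σ τ σ' τ' φ) {K : Type u} [Field K] [IsAlgClosed K]
    [Algebra C K] (μ' : C' →ₐ[C] K) (x₀ : A' →ₐ[C] K)
    (hx₀ : x₀.comp (IsScalarTower.toAlgHom C C' A') = μ') (x : A →ₐ[C] K) :
    ∃! x' : A' →ₐ[C] K, x'.comp (IsScalarTower.toAlgHom C A A') = x ∧
      x'.comp (IsScalarTower.toAlgHom C C' A') = μ' := by
  obtain ⟨r, hrσ, hrτ⟩ := h.arrow K (x₀.comp (IsScalarTower.toAlgHom C A A')) x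
  obtain ⟨r', hr'φ, hr'σ⟩ := h.desc K r x₀ hrσ
  refine ⟨r'.comp τ', ⟨?_, ?_⟩, ?_⟩
  · rw [AlgHom.comp_assoc, h.commτ, ← AlgHom.comp_assoc, hr'φ, hrτ]
  · rw [← hx₀, ← hr'σ]
    exact AlgHom.ext fun c => congrArg r' (h.inv'_mem c).symm
  · rintro y ⟨hy, hy'⟩
    obtain ⟨p, hpσ, hpτ⟩ := h.arrow' K (r'.comp τ') y fun c => by
      have h1 : r' (τ' (algebraMap C' A' c)) = μ' c := by
        rw [← hx₀, ← hr'σ, ← h.inv'_mem c]; rfl
      exact h1.trans (DFunLike.congr_fun hy' c).symm
    have hyx : (r'.comp τ').comp (IsScalarTower.toAlgHom C A A') = x := by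
      rw [AlgHom.comp_assoc, h.commτ, ← AlgHom.comp_assoc, hr'φ, hrτ]
    have hloop : (p.comp φ).comp σ = (p.comp φ).comp τ := by
      rw [AlgHom.comp_assoc, ← h.commσ, AlgHom.comp_assoc, ← h.commτ, ← AlgHom.comp_assoc,
        ← AlgHom.comp_assoc, hpσ, hpτ, hy, hyx]
    obtain ⟨q, hqφ, hqσ, hqτ⟩ := h.stab K (p.comp φ) (r'.comp τ') hloop (by
      rw [AlgHom.comp_assoc, ← h.commσ, ← AlgHom.comp_assoc, hpσ])
    rw [← hpτ, h.extσ K p q hqφ.symm (hpσ.trans hqσ.symm), hqτ]

variable [Algebra.IsIntegral C A] [Algebra.Etale A A']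

/-- A point of an etale algebra over a point with values in a field `F` takes values in `F`, if the ambient
field is purely inseparable over `F`. -/
theorem mem_range_of_isPurelyInseparable {F K : Type u} [Field F] [Field K] [Algebra F K]
    [IsPurelyInseparable F K] (x : A →+* F) (x' : A' →+* K)
    (h : x'.comp (algebraMap A A') = (algebraMap F K).comp x) (a : A') :
    x' a ∈ (algebraMap F K).range := by
  letI : Algebra A F := x.toAlgebra
  letI : Algebra A K := ((algebraMap F K).comp x).toAlgebra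
  haveI : IsScalarTower A F K := IsScalarTower.of_algebraMap_eq fun _ => rfl
  let xA : A' →ₐ[A] K := { x' with commutes' := fun a => DFunLike.congr_fun h a }
  let Φ : F ⊗[A] A' →ₐ[F] K := Algebra.TensorProduct.lift (Algebra.ofId F K) xA (fun _ _ => Commute.all _ _)
  haveI : Algebra.FormallyUnramified F Φ.range :=
    Algebra.FormallyUnramified.of_surjective Φ.rangeRestrict Φ.rangeRestrict_surjective
  haveI : Algebra.FiniteType F Φ.range :=
    Algebra.FiniteType.of_surjective Φ.rangeRestrict Φ.rangeRestrict_surjective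
  have halg : Algebra.IsAlgebraic F K := inferInstance
  have hfield : IsField Φ.range := Subalgebra.isField_of_algebraic _
  letI := hfield.toField
  haveI : Algebra.IsSeparable F Φ.range := Algebra.FormallyUnramified.isSeparable F Φ.range
  haveI : IsPurelyInseparable F Φ.range :=
    IsPurelyInseparable.tower_bot F Φ.range K
  obtain ⟨c, hc⟩ := IsPurelyInseparable.surjective_algebraMap_of_isSeparable F Φ.range
    ⟨x' a, ⟨1 ⊗ₜ a, by simp [Φ, xA]⟩⟩
  exact ⟨c, congrArg Subtype.val hc⟩

section Points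

variable {S : Type u} [CommRing S] [Algebra C S] [IsLocalRing S] {K : Type u} [Field K] [Algebra C K]
  [Algebra (ResidueField S) K] [IsScalarTower C (ResidueField S) K]

variable (S K) in
/-- The closed point of `S` in `K`. -/
def closedPt : S →ₐ[C] K :=
  (IsScalarTower.toAlgHom C (ResidueField S) K).comp (IsScalarTower.toAlgHom C S (ResidueField S))

theorem closedPt_apply (s : S) : closedPt (C := C) S K s = algebraMap (ResidueField S) K (residue S s) := rfl

/-- The point of `S ⊗ T` over the closed point of `S` given by a point of `T`. -/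
def overPt {T : Type u} [CommRing T] [Algebra C T] (x : T →ₐ[C] K) : S ⊗[C] T →ₐ[C] K :=
  Algebra.TensorProduct.lift (closedPt S K) x (fun _ _ => Commute.all _ _)

theorem overPt_includeRight {T : Type u} [CommRing T] [Algebra C T] (x : T →ₐ[C] K) :
    (overPt (S := S) x).comp Algebra.TensorProduct.includeRight = x :=
  AlgHom.ext fun a => by simp [overPt]

theorem mem_ker_of_mem {T : Type u} [CommRing T] [Algebra C T] (x : T →ₐ[C] K) {s : S}
    (hs : s ∈ maximalIdeal S) : algebraMap S (S ⊗[C] T) s ∈ RingHom.ker (overPt (S := S) x) := by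
  rw [RingHom.mem_ker]
  show overPt x (s ⊗ₜ[C] (1 : T)) = 0
  rw [overPt, Algebra.TensorProduct.lift_tmul, map_one, mul_one, closedPt_apply,
    (residue_eq_zero_iff s).2 hs, map_zero]

theorem isMaximal_ker_overPt {T : Type u} [CommRing T] [Algebra C T] [Algebra.IsIntegral C T]
    (x : T →ₐ[C] K) : (RingHom.ker (overPt (S := S) x)).IsMaximal := by
  haveI : (RingHom.ker (overPt (S := S) x)).IsPrime := RingHom.ker_isPrime _
  haveI : Algebra.IsIntegral S (S ⊗[C] T) := inferInstance
  refine Ideal.isMaximal_of_isIntegral_of_isMaximal_comap (R := S) _ ?_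
  have hle : maximalIdeal S ≤ (RingHom.ker (overPt (S := S) x)).comap (algebraMap S (S ⊗[C] T)) :=
    fun s hs => mem_ker_of_mem x hs
  rw [← (maximalIdeal.isMaximal S).eq_of_le (Ideal.comap_ne_top _ (Ideal.IsPrime.ne_top ‹_›)) hle]
  exact maximalIdeal.isMaximal S

theorem exists_overPt_of_prime [IsAlgClosed K] {T : Type u} [CommRing T] [Algebra C T] [Algebra.IsIntegral C T]
    (q : Ideal (S ⊗[C] T)) [q.IsPrime] (hq : (maximalIdeal S).map (algebraMap S (S ⊗[C] T)) ≤ q) :
    ∃ x : T →ₐ[C] K, RingHom.ker (overPt (S := S) x) = q := by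
  have hz : ∀ s ∈ maximalIdeal S, (Ideal.Quotient.mk q).comp (algebraMap S (S ⊗[C] T)) s = 0 := fun s hs =>
    Ideal.Quotient.eq_zero_iff_mem.2 (hq (Ideal.mem_map_of_mem _ hs))
  let ι : ResidueField S →+* (S ⊗[C] T) ⧸ q := Ideal.Quotient.lift _ _ hz
  letI := ι.toAlgebra
  haveI : IsScalarTower S (ResidueField S) ((S ⊗[C] T) ⧸ q) := IsScalarTower.of_algebraMap_eq fun _ => rfl
  haveI : Algebra.IsIntegral S (S ⊗[C] T) := inferInstance
  haveI : Algebra.IsIntegral S ((S ⊗[C] T) ⧸ q) := ⟨fun y => by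
    obtain ⟨y, rfl⟩ := Ideal.Quotient.mk_surjective y
    exact (Algebra.IsIntegral.isIntegral (R := S) y).map (Ideal.Quotient.mkₐ S q)⟩
  haveI : Algebra.IsIntegral (ResidueField S) ((S ⊗[C] T) ⧸ q) := Algebra.IsIntegral.tower_top (R := S)
  haveI : Algebra.IsAlgebraic (ResidueField S) ((S ⊗[C] T) ⧸ q) := Algebra.IsIntegral.isAlgebraic
  haveI : q.IsMaximal := Ideal.Quotient.maximal_of_isField q (isField_of_isIntegral_of_isField'
    (R := ResidueField S) (Field.toIsField _))
  letI := Ideal.Quotient.field q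
  let e : (S ⊗[C] T) ⧸ q →ₐ[ResidueField S] K := IsAlgClosed.lift
  have hr : ∀ s : S, e (Ideal.Quotient.mk q (s ⊗ₜ[C] (1 : T))) = closedPt (C := C) S K s := fun s =>
    e.commutes (residue S s)
  let g : S ⊗[C] T →ₐ[C] K :=
    { e.toRingHom.comp (Ideal.Quotient.mk q) with
      commutes' := fun c => by
        show e (Ideal.Quotient.mk q (algebraMap C S c ⊗ₜ[C] (1 : T))) = _
        rw [hr, AlgHom.commutes] }
  refine ⟨g.comp Algebra.TensorProduct.includeRight, ?_⟩
  have hg : overPt (g.comp Algebra.TensorProduct.includeRight) = g := by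
    refine Algebra.TensorProduct.ext (AlgHom.ext fun s => ?_) (AlgHom.ext fun t => ?_)
    · show overPt (g.comp Algebra.TensorProduct.includeRight) (s ⊗ₜ[C] (1 : T)) = g (s ⊗ₜ 1)
      rw [overPt, Algebra.TensorProduct.lift_tmul, map_one, mul_one]
      exact (hr s).symm
    · exact DFunLike.congr_fun (overPt_includeRight (g.comp Algebra.TensorProduct.includeRight)) t
  rw [hg]
  ext z
  rw [RingHom.mem_ker]
  show e (Ideal.Quotient.mk q z) = 0 ↔ _
  rw [map_eq_zero_iff e e.injective, Ideal.Quotient.eq_zero_iff_mem]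

theorem henselianRing_radical [HenselianLocalRing S] (T : Type u) [CommRing T] [Algebra C T]
    [Algebra.IsIntegral C T] :
    HenselianRing (S ⊗[C] T) ((maximalIdeal S).map (algebraMap S (S ⊗[C] T))).radical := by
  haveI : Algebra.IsIntegral S (S ⊗[C] T) := inferInstance
  haveI := Groth.Hensel1.henselianRing_of_isIntegral (A := S) (I := maximalIdeal S) (S ⊗[C] T)
  exact Groth.Hensel1.henselianRing_of_le_radical (I := (maximalIdeal S).map (algebraMap S (S ⊗[C] T))) le_rfl

variable [IsSepClosed (ResidueField S)] [Algebra.IsAlgebraic (ResidueField S) K]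

theorem eq_of_ker_eq {T : Type u} [CommRing T] [Algebra C T] (x₁ x₂ : T →ₐ[C] K)
    (h : RingHom.ker (overPt (S := S) x₁) = RingHom.ker (overPt (S := S) x₂)) : x₁ = x₂ := by
  haveI : IsPurelyInseparable (ResidueField S) K := inferInstance
  haveI : ExpChar K (ringExpChar (ResidueField S)) :=
    expChar_of_injective_algebraMap (algebraMap (ResidueField S) K).injective _
  refine AlgHom.ext fun t => ?_
  obtain ⟨n, c, hc⟩ := IsPurelyInseparable.pow_mem (ResidueField S) (ringExpChar (ResidueField S)) (x₁ t)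
  obtain ⟨s, rfl⟩ := residue_surjective c
  have h1 : overPt x₁ ((1 : S) ⊗ₜ[C] (t ^ ringExpChar (ResidueField S) ^ n) - s ⊗ₜ (1 : T)) = 0 := by
    rw [map_sub, overPt, Algebra.TensorProduct.lift_tmul, Algebra.TensorProduct.lift_tmul, map_one, one_mul,
      map_one, mul_one, map_pow, closedPt_apply, hc, sub_self]
  rw [← RingHom.mem_ker, h, RingHom.mem_ker, map_sub, overPt, Algebra.TensorProduct.lift_tmul,
    Algebra.TensorProduct.lift_tmul, map_one, one_mul, map_one, mul_one, map_pow, closedPt_apply, hc,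
    sub_eq_zero] at h1
  exact (iterateFrobenius K (ringExpChar (ResidueField S)) n).injective (by
    rw [iterateFrobenius_def, iterateFrobenius_def]; exact h1.symm)

theorem range_quotient {T : Type u} [CommRing T] [Algebra C T] [Algebra.IsIntegral C T] (x : T →ₐ[C] K)
    [Algebra T A'] [Algebra.Etale T A'] (x' : A' →+* K) (h : x'.comp (algebraMap T A') = x.toRingHom) (a : A') :
    ∃ z : S ⊗[C] T, overPt x z = x' a := by
  haveI := isMaximal_ker_overPt (S := S) x
  letI := Ideal.Quotient.field (RingHom.ker (overPt (S := S) x))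
  let ιF : ResidueField S →+* (S ⊗[C] T) ⧸ RingHom.ker (overPt (S := S) x) :=
    Ideal.Quotient.lift _ ((Ideal.Quotient.mk _).comp (algebraMap S (S ⊗[C] T))) fun s hs =>
      Ideal.Quotient.eq_zero_iff_mem.2 (mem_ker_of_mem x hs)
  let j : (S ⊗[C] T) ⧸ RingHom.ker (overPt (S := S) x) →+* K := RingHom.kerLift (overPt (S := S) x).toRingHom
  letI := ιF.toAlgebra
  letI := j.toAlgebra
  haveI : IsScalarTower (ResidueField S) ((S ⊗[C] T) ⧸ RingHom.ker (overPt (S := S) x)) K :=
    IsScalarTower.of_algebraMap_eq fun c => by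
      obtain ⟨s, rfl⟩ := residue_surjective c
      show _ = overPt x (s ⊗ₜ[C] (1 : T))
      rw [overPt, Algebra.TensorProduct.lift_tmul, map_one, mul_one, closedPt_apply]
  haveI : IsPurelyInseparable ((S ⊗[C] T) ⧸ RingHom.ker (overPt (S := S) x)) K :=
    IsPurelyInseparable.tower_top (ResidueField S) _ K
  obtain ⟨z, hz⟩ := mem_range_of_isPurelyInseparable (F := (S ⊗[C] T) ⧸ RingHom.ker (overPt (S := S) x))
    (A := T) ((Ideal.Quotient.mk _).comp Algebra.TensorProduct.includeRight.toRingHom) x' (RingHom.ext fun t => by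
      refine (DFunLike.congr_fun h t).trans ?_
      exact (DFunLike.congr_fun (overPt_includeRight (S := S) x) t).symm) a
  obtain ⟨z, rfl⟩ := Ideal.Quotient.mk_surjective z
  exact ⟨z, hz⟩

end Points

variable (Ω : Type u) [Field Ω] [Algebra C Ω]

/-- The retraction over the strictly henselian ring. -/
theorem exists_retraction [Algebra.IsIntegral C B] (h : Data (C' := C') σ τ σ' τ' φ) [IsSepClosed (ResidueField (Groth.Hensel1.Hens C Ω))]
    {K : Type u} [Field K] [IsAlgClosed K] [Algebra C K] [Algebra (ResidueField (Groth.Hensel1.Hens C Ω)) K]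
    [IsScalarTower C (ResidueField (Groth.Hensel1.Hens C Ω)) K]
    [Algebra.IsAlgebraic (ResidueField (Groth.Hensel1.Hens C Ω)) K]
    (μ' : C' →ₐ[C] K) (x₀ : A' →ₐ[C] K) (hx₀ : x₀.comp (IsScalarTower.toAlgHom C C' A') = μ') :
    ∃ π : A' →ₐ[C] Groth.Hensel1.Hens C Ω ⊗[C] A,
      π.comp (IsScalarTower.toAlgHom C A A') = Algebra.TensorProduct.includeRight ∧
      (∀ r : B' →ₐ[C] Groth.Hensel1.Hens C Ω ⊗[C] B,
        r.comp φ = Algebra.TensorProduct.includeRight →
        r.comp σ' = (Algebra.TensorProduct.map (AlgHom.id C _) σ).comp π →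
        r.comp τ' = (Algebra.TensorProduct.map (AlgHom.id C _) τ).comp π) ∧
      ∃ ψ : Groth.Hensel1.Hens C Ω ⊗[C] A →ₐ[C] K, ψ.comp π = x₀ := by
  classical
  let S := Groth.Hensel1.Hens C Ω
  let k := ResidueField S
  haveI := h.finite K
  have hsel := fun x => h.existsUnique_point μ' x₀ hx₀ x
  choose sel hsel₁ hsel₂ using hsel
  letI : Algebra A (S ⊗[C] A) := Algebra.TensorProduct.includeRight.toRingHom.toAlgebra
  letI : IsScalarTower C A (S ⊗[C] A) := IsScalarTower.of_algebraMap_eq fun c =>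
    (Algebra.TensorProduct.includeRight.commutes c).symm
  let J : (A →ₐ[C] K) → Ideal (S ⊗[C] A) := fun x => RingHom.ker (overPt (S := S) x)
  have hcop : Pairwise (Function.onFun IsCoprime J) := fun x y hxy => by
    refine Ideal.isCoprime_iff_sup_eq.2 ?_
    haveI := isMaximal_ker_overPt (S := S) x
    haveI := isMaximal_ker_overPt (S := S) y
    exact Ideal.IsMaximal.coprime_of_ne ‹_› ‹_› fun e => hxy (eq_of_ker_eq x y e)
  -- the values are reached by `S ⊗ A`
  have hreach : ∀ a' : A', ∃ z : S ⊗[C] A, ∀ x, overPt x z = sel x a' := fun a' => by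
    choose z hz using fun x : A →ₐ[C] K => range_quotient (S := S) x (sel x).toRingHom
      (congrArg AlgHom.toRingHom (hsel₁ x).1) a'
    obtain ⟨w, hw⟩ := Ideal.exists_forall_sub_mem_ideal hcop z
    exact ⟨w, fun x => (sub_eq_zero.1 ((map_sub _ _ _).symm.trans (RingHom.mem_ker.1 (hw x)))).trans (hz x)⟩
  let JA := ((maximalIdeal S).map (algebraMap S (S ⊗[C] A))).radical
  have hJA : ∀ {T : Type u} [CommRing T] [Algebra C T] [Algebra.IsIntegral C T] (z : S ⊗[C] T),
      (∀ x : T →ₐ[C] K, overPt x z = 0) → z ∈ ((maximalIdeal S).map (algebraMap S (S ⊗[C] T))).radical := by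
    intro T _ _ _ z hz
    rw [Ideal.radical_eq_sInf, Submodule.mem_sInf]
    rintro q ⟨hq, hqp⟩
    obtain ⟨x, hx⟩ := exists_overPt_of_prime (K := K) q hq
    rw [← hx]; exact hz x
  have hJA' : ∀ z ∈ JA, ∀ x : A →ₐ[C] K, overPt x z = 0 := fun z hz x => by
    haveI := isMaximal_ker_overPt (S := S) x
    refine (Ideal.IsPrime.radical_le_iff (Ideal.IsMaximal.isPrime ‹_›)).2 ?_ hz
    exact Ideal.map_le_iff_le_comap.2 fun s hs => mem_ker_of_mem x hs
  choose Z hZ using hreach
  have huniq : ∀ {z w : S ⊗[C] A}, (∀ x, overPt x z = overPt x w) →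
      Ideal.Quotient.mk JA z = Ideal.Quotient.mk JA w := fun {z w} hzw =>
    Ideal.Quotient.eq.2 (hJA _ fun x => by rw [map_sub, hzw x, sub_self])
  let π₀ : A' →ₐ[A] (S ⊗[C] A) ⧸ JA :=
    { toFun := fun a' => Ideal.Quotient.mk JA (Z a')
      map_one' := huniq fun x => by rw [hZ, map_one, map_one]
      map_mul' := fun a b => by rw [← map_mul]; exact huniq fun x => by rw [hZ, map_mul, map_mul, hZ, hZ]
      map_zero' := by
        rw [← map_zero (Ideal.Quotient.mk JA)]; exact huniq fun x => by rw [hZ, map_zero, map_zero]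
      map_add' := fun a b => by rw [← map_add]; exact huniq fun x => by rw [hZ, map_add, map_add, hZ, hZ]
      commutes' := fun a => huniq (w := algebraMap A (S ⊗[C] A) a) fun x => by
        rw [hZ]
        exact (DFunLike.congr_fun (hsel₁ x).1 a).trans
          (DFunLike.congr_fun (overPt_includeRight (S := S) x) a).symm }
  haveI : HenselianRing (S ⊗[C] A) JA := henselianRing_radical A
  obtain ⟨π, hπ, -⟩ := Groth.Hensel1.existsUnique_algHom_etale_lift π₀
  have hπx : ∀ x, (overPt (S := S) x).comp (π.restrictScalars C) = sel x := fun x => AlgHom.ext fun a' => by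
    have h1 : π a' - Z a' ∈ JA := Ideal.Quotient.eq.1 (DFunLike.congr_fun hπ a')
    show overPt x (π a') = _
    rw [← hZ a' x, ← sub_eq_zero, ← map_sub]
    exact hJA' _ h1 x
  refine ⟨π.restrictScalars C, AlgHom.ext fun a => π.commutes a, fun r hrφ hrσ => ?_,
    overPt (x₀.comp (IsScalarTower.toAlgHom C A A')), ?_⟩
  · -- both composites lift the same map modulo the radical
    let inclB : B →ₐ[C] S ⊗[C] B := Algebra.TensorProduct.includeRight
    let τS := Algebra.TensorProduct.map (AlgHom.id C S) τ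
    letI algAB : Algebra A (S ⊗[C] B) := (inclB.comp τ).toRingHom.toAlgebra
    haveI : HenselianRing (S ⊗[C] B) ((maximalIdeal S).map (algebraMap S (S ⊗[C] B))).radical :=
      henselianRing_radical B
    let g₁ : A' →ₐ[A] S ⊗[C] B :=
      { (r.comp τ').toRingHom with
        commutes' := fun a => (congrArg r (DFunLike.congr_fun h.commτ a)).trans (DFunLike.congr_fun hrφ (τ a)) }
    let g₂ : A' →ₐ[A] S ⊗[C] B :=
      { (τS.comp (π.restrictScalars C)).toRingHom with
        commutes' := fun a => by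
          show τS (π (algebraMap A A' a)) = (1 : S) ⊗ₜ[C] τ a
          rw [π.commutes]
          show τS ((1 : S) ⊗ₜ[C] a) = _
          rw [Algebra.TensorProduct.map_tmul, map_one] }
    have hmap : ∀ (q : B →ₐ[C] K) (ρ : A →ₐ[C] B),
        (overPt (S := S) q).comp (Algebra.TensorProduct.map (AlgHom.id C S) ρ) = overPt (q.comp ρ) := fun q ρ =>
      Algebra.TensorProduct.ext (AlgHom.ext fun s => by simp [overPt]) (AlgHom.ext fun a => by simp [overPt])
    have key : g₁ = g₂ := by
      apply (Groth.Hensel1.bijective_comp_mk ((maximalIdeal S).map (algebraMap S (S ⊗[C] B))).radical A').1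
      refine AlgHom.ext fun a' => Ideal.Quotient.eq.2 (hJA _ fun q => ?_)
      rw [map_sub, sub_eq_zero]
      have h2 : (overPt (S := S) q).comp (τS.comp (π.restrictScalars C)) = sel (q.comp τ) := by
        rw [← AlgHom.comp_assoc, hmap, hπx]
      have h1 : (overPt (S := S) q).comp (r.comp τ') = sel (q.comp τ) := by
        refine hsel₂ (q.comp τ) _ ⟨?_, ?_⟩
        · rw [AlgHom.comp_assoc, AlgHom.comp_assoc, h.commτ, ← AlgHom.comp_assoc r, hrφ, ← AlgHom.comp_assoc,
            overPt_includeRight]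
        · refine AlgHom.ext fun c => ?_
          show overPt q (r (τ' (algebraMap C' A' c))) = μ' c
          rw [← h.inv'_mem c]
          show (overPt q).comp (r.comp σ') (algebraMap C' A' c) = μ' c
          rw [hrσ, ← AlgHom.comp_assoc, hmap, hπx]
          exact DFunLike.congr_fun (hsel₁ (q.comp σ)).2 c
      exact (DFunLike.congr_fun h1 a').trans (DFunLike.congr_fun h2 a').symm
    exact AlgHom.ext fun a' => DFunLike.congr_fun key a'
  · rw [hπx]
    exact (hsel₂ _ x₀ ⟨rfl, hx₀⟩).symm

end Groth.EtQuot
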