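import Groth.Agent.GitQuot.EtQuot.Retraction
import Groth.Agent.Sga3.Spreading

/-!
# Etale morphisms of affine groupoids: the retraction over an etale neighbourhood
-/

set_option autoImplicit false

universe u

open TensorProduct IsLocalRing

noncomputable section

namespace Groth.EtQuot

open Groth.Hensel1 Groth.Sga3.HensPoint Groth.Sga3.Spreading

section Kill

variable {R : Type u} [CommRing R] {Ω : Type u} [Field Ω] [Algebra R Ω]

theorem exists_kill_tensor_of_surjective {F N : Type u} [AddCommGroup F] [Module R F] [Module.Flat R F]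
    [AddCommGroup N] [Module R N] (p : F →ₗ[R] N) (hp : Function.Surjective p) {κ : Type u} [Finite κ]
    (S : Stage R Ω) (z w : κ → S.E ⊗[R] N) (hzw : ∀ k, toT S N (z k) = toT S N (w k)) :
    ∃ (S' : Stage R Ω) (g : StageHom S S'), ∀ k, move g N (z k) = move g N (w k) := by
  choose d hd using fun k => LinearMap.lTensor_surjective S.E hp (z k - w k)
  have hex : Function.Exact ((LinearMap.ker p).subtype.lTensor (Hens R Ω)) (p.lTensor (Hens R Ω)) :=
    lTensor_exact (Hens R Ω) (LinearMap.exact_subtype_ker_map p) hp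
  choose v hv using fun k => (hex (toT S F (d k))).1 (by
    have h1 : p.lTensor (Hens R Ω) (toT S F (d k)) = toT S N (p.lTensor S.E (d k)) := by
      rw [← LinearMap.comp_apply, ← LinearMap.comp_apply]
      exact congrArg (fun f : S.E ⊗[R] F →ₗ[R] Hens R Ω ⊗[R] N => f (d k))
        ((LinearMap.lTensor_comp_rTensor _ _ _).trans (LinearMap.rTensor_comp_lTensor _ _ _).symm)
    rw [h1, hd, map_sub, sub_eq_zero]
    exact hzw k)
  obtain ⟨S₂, y, hy⟩ := exists_lift (R := R) (Ω := Ω) (N := LinearMap.ker p) v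
  obtain ⟨T, ⟨g₁⟩, ⟨g₂⟩⟩ := exists_merge S S₂
  obtain ⟨T', g₃, hg₃⟩ := exists_kill_tensor T (fun k => move g₁ F (d k))
    (fun k => (LinearMap.ker p).subtype.lTensor T.E (move g₂ (LinearMap.ker p) (y k))) fun k => by
      rw [toT_move]
      have h1 : toT T F ((LinearMap.ker p).subtype.lTensor T.E (move g₂ (LinearMap.ker p) (y k))) =
          (LinearMap.ker p).subtype.lTensor (Hens R Ω) (toT T (LinearMap.ker p) (move g₂ (LinearMap.ker p) (y k))) := by
        rw [← LinearMap.comp_apply, ← LinearMap.comp_apply]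
        exact congrArg (fun f : T.E ⊗[R] (LinearMap.ker p) →ₗ[R] Hens R Ω ⊗[R] F =>
          f (move g₂ (LinearMap.ker p) (y k)))
          ((LinearMap.rTensor_comp_lTensor _ _ _).trans (LinearMap.lTensor_comp_rTensor _ _ _).symm)
      rw [h1, toT_move, hy, hv]
  refine ⟨T', hcomp g₁ g₃, fun k => sub_eq_zero.1 ?_⟩
  have hnat : ∀ {M M' : Type u} [AddCommGroup M] [Module R M] [AddCommGroup M'] [Module R M'] (f : M →ₗ[R] M')
      {A B : Stage R Ω} (g : StageHom A B) (x : A.E ⊗[R] M),
      move g M' (f.lTensor A.E x) = f.lTensor B.E (move g M x) := by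
    intro M M' _ _ _ _ f A B g x
    rw [← LinearMap.comp_apply, ← LinearMap.comp_apply]
    exact congrArg (fun l : A.E ⊗[R] M →ₗ[R] B.E ⊗[R] M' => l x)
      ((LinearMap.rTensor_comp_lTensor _ _ _).trans (LinearMap.lTensor_comp_rTensor _ _ _).symm)
  rw [← map_sub, ← hd, hnat, ← move_move, hg₃, hnat, ← LinearMap.comp_apply, ← LinearMap.lTensor_comp,
    LinearMap.comp_ker_subtype, LinearMap.lTensor_zero, LinearMap.zero_apply]

/-- Equalities in tensor products with the strictly henselian ring hold at a stage; no flatness needed. -/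
theorem exists_kill_tensor' {N : Type u} [AddCommGroup N] [Module R N] {κ : Type u} [Finite κ]
    (S : Stage R Ω) (z w : κ → S.E ⊗[R] N) (hzw : ∀ k, toT S N (z k) = toT S N (w k)) :
    ∃ (S' : Stage R Ω) (g : StageHom S S'), ∀ k, move g N (z k) = move g N (w k) :=
  exists_kill_tensor_of_surjective (Finsupp.linearCombination R (id : N → N))
    (fun n => ⟨Finsupp.single n 1, by simp⟩) S z w hzw

end Kill

variable {C A B A' B' C' : Type u} [CommRing C] [CommRing A] [CommRing B] [CommRing A'] [CommRing B']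
  [CommRing C'] [Algebra C A] [Algebra C B] [Algebra C A'] [Algebra C B'] [Algebra C C'] [Algebra C' A']
  [IsScalarTower C C' A'] [Algebra A A'] [IsScalarTower C A A'] [Algebra.IsIntegral C A] [Algebra.IsIntegral C B]
  [Algebra.Etale A A'] {σ τ : A →ₐ[C] B} {σ' τ' : A' →ₐ[C] B'} {φ : B →ₐ[C] B'}

/-- The retraction over an etale neighbourhood of a point. -/
structure LocalData (h : Data (C' := C') σ τ σ' τ' φ) (q' : Ideal C') (D : Type u) [CommRing D] [Algebra C D] where
  π : A' →ₐ[C] D ⊗[C] A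
  comm : π.comp (IsScalarTower.toAlgHom C A A') = Algebra.TensorProduct.includeRight
  compat : ∀ r : B' →ₐ[C] D ⊗[C] B, r.comp φ = Algebra.TensorProduct.includeRight →
    r.comp σ' = (Algebra.TensorProduct.map (AlgHom.id C D) σ).comp π →
    r.comp τ' = (Algebra.TensorProduct.map (AlgHom.id C D) τ).comp π
  point : ∃ P : Ideal (D ⊗[C] A), P.IsPrime ∧
    P.comap (π.comp (IsScalarTower.toAlgHom C C' A')).toRingHom = q'

/-- Every prime of `A'` gives an etale neighbourhood with a retraction. -/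
theorem exists_localData (h : Data (C' := C') σ τ σ' τ' φ) (P' : Ideal A') [P'.IsPrime] :
    ∃ (D : Type u) (_ : CommRing D) (_ : Algebra C D), Algebra.Etale C D ∧
      Nonempty (LocalData h (P'.comap (algebraMap C' A')) D) := by
  classical
  let pA := P'.comap (algebraMap A A')
  let q := pA.comap (algebraMap C A)
  let Ω := SeparableClosure q.ResidueField
  haveI : IsSepClosed Ω := IsSepClosure.sep_closed q.ResidueField
  let S := Hens C Ω
  haveI : IsSepClosed (ResidueField S) := isSepClosed_residueField q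
  -- the field of geometric points
  let K := AlgebraicClosure Ω
  letI algkΩ : Algebra (ResidueField S) Ω := (Hens.residuePt (R := C) (Ω := Ω)).toAlgebra
  letI : Algebra (ResidueField S) K := inferInstance
  haveI : Algebra.IsAlgebraic (ResidueField S) Ω := ⟨fun y => by
    obtain ⟨x, rfl⟩ := pt_surjective q y
    exact isAlgebraic_algebraMap (residue S x)⟩
  haveI : Algebra.IsAlgebraic (ResidueField S) K := Algebra.IsAlgebraic.trans (ResidueField S) Ω K
  haveI : IsScalarTower C (ResidueField S) K := IsScalarTower.of_algebraMap_eq fun c => by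
    rw [IsScalarTower.algebraMap_apply C Ω K, ← (Hens.pt (R := C) (Ω := Ω)).commutes c]
    rfl
  -- a geometric point over `P'`
  haveI : P'.LiesOver pA := ⟨rfl⟩
  haveI : pA.LiesOver q := ⟨rfl⟩
  letI := Localization.AtPrime.algebraOfLiesOver pA P'
  haveI : Module.Finite pA.ResidueField P'.ResidueField := inferInstance
  haveI : Algebra.IsIntegral (C ⧸ q) (A ⧸ pA) := Algebra.IsIntegral.tower_top C
  haveI : Algebra.IsAlgebraic (C ⧸ q) (A ⧸ pA) := Algebra.IsIntegral.isAlgebraic
  haveI : Algebra.IsAlgebraic (A ⧸ pA) pA.ResidueField := inferInstance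
  letI algAq : Algebra (A ⧸ pA) P'.ResidueField :=
    ((algebraMap pA.ResidueField P'.ResidueField).comp (algebraMap (A ⧸ pA) pA.ResidueField)).toAlgebra
  haveI : IsScalarTower (A ⧸ pA) pA.ResidueField P'.ResidueField := IsScalarTower.of_algebraMap_eq fun _ => rfl
  haveI : Algebra.IsAlgebraic (A ⧸ pA) P'.ResidueField :=
    Algebra.IsAlgebraic.trans (A ⧸ pA) pA.ResidueField P'.ResidueField
  letI algCq : Algebra (C ⧸ q) P'.ResidueField :=
    ((algebraMap (A ⧸ pA) P'.ResidueField).comp (algebraMap (C ⧸ q) (A ⧸ pA))).toAlgebra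
  haveI : IsScalarTower (C ⧸ q) (A ⧸ pA) P'.ResidueField := IsScalarTower.of_algebraMap_eq fun _ => rfl
  haveI : Algebra.IsAlgebraic (C ⧸ q) P'.ResidueField :=
    Algebra.IsAlgebraic.trans (C ⧸ q) (A ⧸ pA) P'.ResidueField
  letI algCqK : Algebra (C ⧸ q) K := ((algebraMap q.ResidueField K).comp (algebraMap (C ⧸ q) q.ResidueField)).toAlgebra
  haveI : Module.IsTorsionFree (C ⧸ q) K := Module.isTorsionFree_iff_algebraMap_injective.2
    ((algebraMap q.ResidueField K).injective.comp (Ideal.injective_algebraMap_quotient_residueField q))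
  haveI : Module.IsTorsionFree (C ⧸ q) P'.ResidueField := by
    refine Module.isTorsionFree_iff_algebraMap_injective.2 (Function.Injective.comp (g := algebraMap (A ⧸ pA) P'.ResidueField) ?_ ?_)
    · exact (algebraMap pA.ResidueField P'.ResidueField).injective.comp
        (Ideal.injective_algebraMap_quotient_residueField pA)
    · exact FaithfulSMul.algebraMap_injective (C ⧸ q) (A ⧸ pA)
  let e : P'.ResidueField →ₐ[C ⧸ q] K := IsAlgClosed.lift
  let x₀ : A' →ₐ[C] K :=
    { e.toRingHom.comp (algebraMap A' P'.ResidueField) with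
      commutes' := fun c => by
        have h1 := e.commutes (Ideal.Quotient.mk q c)
        have h2 : algebraMap (C ⧸ q) P'.ResidueField (Ideal.Quotient.mk q c) =
            algebraMap A' P'.ResidueField (algebraMap C A' c) := by
          rw [IsScalarTower.algebraMap_apply C A A']
          show algebraMap pA.ResidueField P'.ResidueField (algebraMap A pA.ResidueField (algebraMap C A c)) = _
          rw [← IsScalarTower.algebraMap_apply, IsScalarTower.algebraMap_apply A A' P'.ResidueField]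
        rw [h2] at h1
        refine h1.trans ?_
        exact (IsScalarTower.algebraMap_apply C q.ResidueField K c).symm }
  have hker : RingHom.ker x₀.toRingHom = P' := by
    ext a
    rw [RingHom.mem_ker]
    show e (algebraMap A' P'.ResidueField a) = 0 ↔ _
    rw [map_eq_zero_iff e e.injective, Ideal.algebraMap_residueField_eq_zero]
  obtain ⟨π, hπ, hcompat, ψ, hψ⟩ := exists_retraction (σ := σ) (τ := τ) (σ' := σ') (τ' := τ') (φ := φ) Ω h
    (x₀.comp (IsScalarTower.toAlgHom C C' A')) x₀ rfl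
  -- descend `π`
  obtain ⟨n, pr, hpr, hkerfg⟩ := Algebra.FinitePresentation.out (R := A) (A := A')
  obtain ⟨gens, hgens⟩ := hkerfg
  obtain ⟨S₁, y, hy⟩ := exists_lift (R := C) (Ω := Ω) (N := A) (κ := ULift.{u} (Fin n))
    fun k => π (pr (MvPolynomial.X k.down))
  let mapS : ∀ T : Stage C Ω, T.E ⊗[C] A →ₐ[C] S ⊗[C] A := fun T => Algebra.TensorProduct.map T.h (AlgHom.id C A)
  have hmapS : ∀ (T : Stage C Ω) z, mapS T z = toT T A z := fun _ _ => rfl
  let φ₀ : MvPolynomial (Fin n) A →+* S₁.E ⊗[C] A :=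
    MvPolynomial.eval₂Hom (Algebra.TensorProduct.includeRight : A →ₐ[C] S₁.E ⊗[C] A).toRingHom fun i => y ⟨i⟩
  have h₀ : ∀ p, mapS S₁ (φ₀ p) = π (pr p) := fun p => by
    refine DFunLike.congr_fun (show (mapS S₁).toRingHom.comp φ₀ = π.toRingHom.comp pr.toRingHom from
      MvPolynomial.ringHom_ext (fun a => ?_) fun i => ?_) p
    · show mapS S₁ (φ₀ (MvPolynomial.C a)) = π (pr (MvPolynomial.C a))
      rw [MvPolynomial.eval₂Hom_C, ← MvPolynomial.algebraMap_eq, pr.commutes]
      exact (show mapS S₁ ((1 : S₁.E) ⊗ₜ[C] a) = (1 : S) ⊗ₜ a by simp [mapS]).trans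
        (DFunLike.congr_fun hπ a).symm
    · show mapS S₁ (φ₀ (MvPolynomial.X i)) = π (pr (MvPolynomial.X i))
      rw [MvPolynomial.eval₂Hom_X']
      exact hy ⟨i⟩
  obtain ⟨S₂, g₁, hg₁⟩ := exists_kill_tensor' S₁ (fun p : gens => φ₀ p.1) (fun _ => 0) fun p => by
    rw [← hmapS, h₀, map_zero, show pr p.1 = 0 from hgens.le (Ideal.subset_span p.2), map_zero]
  let mapG : ∀ {T T' : Stage C Ω}, StageHom T T' → (T.E ⊗[C] A →ₐ[C] T'.E ⊗[C] A) :=
    fun g => Algebra.TensorProduct.map g.f (AlgHom.id C A)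
  let φ₂ : MvPolynomial (Fin n) A →+* S₂.E ⊗[C] A := (mapG g₁).toRingHom.comp φ₀
  have hle : RingHom.ker pr.toRingHom ≤ RingHom.ker φ₂ := by
    rw [show RingHom.ker pr.toRingHom = Ideal.span (gens : Set _) from hgens.symm, Ideal.span_le]
    intro p hp
    exact (hg₁ ⟨p, hp⟩).trans (map_zero _)
  let π₂' : A' →+* S₂.E ⊗[C] A := RingHom.liftOfSurjective pr.toRingHom hpr ⟨φ₂, hle⟩
  have hπ₂' : ∀ p, π₂' (pr p) = φ₂ p := fun p => RingHom.liftOfRightInverse_comp_apply _ _ _ _ p
  have hπ₂a : ∀ a, π₂' (algebraMap A A' a) = (1 : S₂.E) ⊗ₜ[C] a := fun a => by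
    rw [← pr.commutes, MvPolynomial.algebraMap_eq, hπ₂']
    show mapG g₁ (φ₀ (MvPolynomial.C a)) = _
    rw [MvPolynomial.eval₂Hom_C]
    simp [mapG]
  let π₂ : A' →ₐ[C] S₂.E ⊗[C] A :=
    { π₂' with
      commutes' := fun c => by
        show π₂' (algebraMap C A' c) = _
        rw [IsScalarTower.algebraMap_apply C A A', hπ₂a]
        exact (Algebra.TensorProduct.includeRight : A →ₐ[C] S₂.E ⊗[C] A).commutes c }
  have hπ₂ : (mapS S₂).comp π₂ = π := by
    refine AlgHom.ext fun a' => ?_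
    obtain ⟨p, rfl⟩ := hpr a'
    show mapS S₂ (π₂' (pr p)) = _
    rw [hπ₂', ← h₀ p]
    exact toT_move g₁ (φ₀ p)
  -- the compatibility at a stage
  let r₀spec := h.desc (S₂.E ⊗[C] B) Algebra.TensorProduct.includeRight
    ((Algebra.TensorProduct.map (AlgHom.id C S₂.E) σ).comp π₂) (AlgHom.ext fun a => by
      show (1 : S₂.E) ⊗ₜ[C] σ a = Algebra.TensorProduct.map (AlgHom.id C S₂.E) σ (π₂' (algebraMap A A' a))
      rw [hπ₂a, Algebra.TensorProduct.map_tmul, map_one])
  obtain ⟨r₀, hr₀φ, hr₀σ⟩ := r₀spec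
  let mapSB : ∀ T : Stage C Ω, T.E ⊗[C] B →ₐ[C] S ⊗[C] B := fun T => Algebra.TensorProduct.map T.h (AlgHom.id C B)
  have hnat : ∀ {P Q : Type u} [CommRing P] [Algebra C P] [CommRing Q] [Algebra C Q] (ρ : A →ₐ[C] B)
      (f : P →ₐ[C] Q),
      (Algebra.TensorProduct.map f (AlgHom.id C B)).comp (Algebra.TensorProduct.map (AlgHom.id C P) ρ) =
        (Algebra.TensorProduct.map (AlgHom.id C Q) ρ).comp (Algebra.TensorProduct.map f (AlgHom.id C A)) := by
    intro P Q _ _ _ _ ρ f
    exact Algebra.TensorProduct.ext (AlgHom.ext fun x => by simp) (AlgHom.ext fun a => by simp)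
  have hS : (mapSB S₂).comp (r₀.comp τ') =
      (mapSB S₂).comp ((Algebra.TensorProduct.map (AlgHom.id C S₂.E) τ).comp π₂) := by
    rw [← AlgHom.comp_assoc, hcompat ((mapSB S₂).comp r₀) ?_ ?_, ← AlgHom.comp_assoc _ _ π₂, hnat,
      AlgHom.comp_assoc, hπ₂]
    · rw [AlgHom.comp_assoc, hr₀φ]
      exact AlgHom.ext fun b => by simp [mapSB]
    · rw [AlgHom.comp_assoc, hr₀σ, ← AlgHom.comp_assoc, hnat, AlgHom.comp_assoc, hπ₂]
  obtain ⟨S₃, g₂, hg₂⟩ := exists_kill_tensor' S₂
    (fun k : ULift.{u} (Fin n) => r₀ (τ' (pr (MvPolynomial.X k.down))))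
    (fun k => Algebra.TensorProduct.map (AlgHom.id C S₂.E) τ (π₂ (pr (MvPolynomial.X k.down))))
    fun k => DFunLike.congr_fun hS (pr (MvPolynomial.X k.down))
  let mvA : S₂.E ⊗[C] A →ₐ[C] S₃.E ⊗[C] A := Algebra.TensorProduct.map g₂.f (AlgHom.id C A)
  let mvB : S₂.E ⊗[C] B →ₐ[C] S₃.E ⊗[C] B := Algebra.TensorProduct.map g₂.f (AlgHom.id C B)
  refine ⟨S₃.E, inferInstance, inferInstance, inferInstance, ⟨⟨mvA.comp π₂, ?_, fun r hrφ hrσ => ?_, ?_⟩⟩⟩
  · refine AlgHom.ext fun a => ?_
    show mvA (π₂' (algebraMap A A' a)) = _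
    rw [hπ₂a]
    simp [mvA]
  · have hr : r = mvB.comp r₀ := by
      refine h.extσ _ _ _ ?_ ?_
      · rw [hrφ, AlgHom.comp_assoc, hr₀φ]
        exact AlgHom.ext fun b => by simp [mvB]
      · rw [hrσ, AlgHom.comp_assoc, hr₀σ, ← AlgHom.comp_assoc mvB, hnat, AlgHom.comp_assoc]
    rw [hr]
    refine AlgHom.coe_ringHom_injective ?_
    refine (RingHom.cancel_right (show Function.Surjective pr.toRingHom from hpr)).1
      (MvPolynomial.ringHom_ext (fun a => ?_) fun i => ?_)
    · show mvB (r₀ (τ' (pr (MvPolynomial.C a)))) =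
        Algebra.TensorProduct.map (AlgHom.id C S₃.E) τ (mvA (π₂' (pr (MvPolynomial.C a))))
      rw [← MvPolynomial.algebraMap_eq, pr.commutes, hπ₂a,
        show τ' (algebraMap A A' a) = φ (τ a) from DFunLike.congr_fun h.commτ a,
        show r₀ (φ (τ a)) = (1 : S₂.E) ⊗ₜ[C] τ a from DFunLike.congr_fun hr₀φ (τ a)]
      simp [mvA, mvB]
    · refine (hg₂ ⟨i⟩).trans ?_
      exact DFunLike.congr_fun (hnat τ g₂.f) (π₂ (pr (MvPolynomial.X i)))
  · refine ⟨RingHom.ker (ψ.comp (mapS S₃)), RingHom.ker_isPrime _, ?_⟩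
    have h3 : (mapS S₃).comp (mvA.comp π₂) = π := by
      rw [← hπ₂, ← AlgHom.comp_assoc]
      congr 1
      refine Algebra.TensorProduct.ext (AlgHom.ext fun x => ?_) (AlgHom.ext fun a => ?_)
      · simp only [mapS, mvA, AlgHom.comp_apply, Algebra.TensorProduct.includeLeft_apply,
          Algebra.TensorProduct.map_tmul, AlgHom.id_apply]
        rw [← g₂.comm]; rfl
      · simp [mapS, mvA]
    ext c
    simp only [Ideal.mem_comap, RingHom.mem_ker]
    rw [← SetLike.ext_iff.1 hker (algebraMap C' A' c), RingHom.mem_ker]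
    show ψ (((mapS S₃).comp (mvA.comp π₂)) (algebraMap C' A' c)) = 0 ↔ x₀ (algebraMap C' A' c) = 0
    rw [h3, ← hψ]
    rfl

end Groth.EtQuot
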